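import Groth.Agent.Lib.TensorMod.QCohTensor
import Groth.Agent.Lib.DetDeg13.Main
import Groth.Agent.Lib.Wedge2.Props
import Groth.Agent.Lib.Wedge2.Top
import Groth.Agent.Lib.PushUnit3.Basic

/-!
The determinant of a twist.
-/

set_option autoImplicit false
set_option linter.style.haveILetI false
set_option backward.isDefEq.respectTransparency false
set_option backward.isDefEq.respectTransparency.types false
set_option synthInstance.maxHeartbeats 400000
set_option maxHeartbeats 1000000

universe u

open CategoryTheory Limits AlgebraicGeometry TopologicalSpace Opposite exteriorPower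

noncomputable section

namespace Groth.Agent.Euler2

open P1Split (IsBas)
open Groth.Agent.M2 (tsec)
open Groth.Agent.Amp (pw)

variable {X : Scheme.{u}} {E L D : X.Modules} {n : ℕ}

/-- Multiplication by a local section on the right. -/
def tsecLin (M N : X.Modules) {V : X.Opens} (g : Γ(N, V)) : Γ(M, V) →ₗ[Γ(X, V)] Γ(CohB1.tensorMod M N, V) where
  toFun a := tsec M N a g
  map_add' a b := M2.tsec_add_left a b g
  map_smul' c a := M2.tsec_smul_left c a g

/-- Multiplication by a generator is bijective on sections over an affine open. -/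
theorem bijective_tsecLin {M N : X.Modules} (hM : Coh.IsQCoh M) (hN : Coh.IsQCoh N) {V : X.Opens} (hV : IsAffineOpen V)
    {g : Γ(N, V)} (hg : Twist.IsGen N V g) : Function.Bijective (tsecLin M N g) := by
  let e : Γ(X, V) ≃ₗ[Γ(X, V)] Γ(N, V) := LinearEquiv.ofBijective (LinearMap.toSpanSingleton Γ(X, V) Γ(N, V) g) (by
    have h := hg V le_rfl
    simp only [M1.mres_id] at h
    exact h)
  have h : ⇑(tsecLin M N g) =
      ⇑(CBC10.secTensor M N (U := V)) ∘ ⇑((TensorProduct.rid Γ(X, V) Γ(M, V)).symm.trans (LinearEquiv.lTensor Γ(M, V) e)) := by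
    funext a
    show tsec M N a g = _
    rw [Function.comp_apply, LinearEquiv.trans_apply, TensorProduct.rid_symm_apply, LinearEquiv.lTensor_tmul,
      CBC10.secTensor_tmul]
    exact congrArg (tsec M N a) (one_smul _ g).symm
  rw [h]
  exact (CBC10.bijective_secTensor M N hM hN hV).comp (LinearEquiv.bijective _)

/-- Exterior powers of a twist by an invertible module. -/
theorem isExtPow_tensor_line (hEq : Coh.IsQCoh E) (hL : PicF.IsInvertible L)
    (hD : ExtPow.IsExtPow n E D) :
    ExtPow.IsExtPow n (CohB1.tensorMod E L) (CohB1.tensorMod D (CohB1.tensorPow L n)) := by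
  classical
  have hDq := Wedge2.isQCoh_of_isExtPow hEq hD
  have hLq := M2.isQCoh_of_isFinLocFree (M2.isFinLocFree_of_isInvertible hL)
  have hLn := M2.isInvertible_tensorPow hL n
  have hLnq := M2.isQCoh_of_isFinLocFree (M2.isFinLocFree_of_isInvertible hLn)
  obtain ⟨φ, hφ⟩ := ExtFil4.exists_phi hD
  let P : X.affineOpens → Prop := fun V => ∃ g : Γ(L, V.1), Twist.IsGen L V.1 g
  have hP : KoszShH13.IsAffBasis P := fun O x hx => by
    obtain ⟨U₁, g₀, hxU₁, hU₁, -, hg₀⟩ := Amp.exists_isGenerator hL (V := O) (x := x) hx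
    obtain ⟨V, hV, hxV, hVU⟩ := exists_isAffineOpen_mem_and_subset (U := U₁) (x := x) hxU₁
    have hVU : V ≤ U₁ := hVU
    exact ⟨⟨V, hV⟩, ⟨M1.mres L hVU g₀,
      (Twist.isGen_of_stalk fun y hy => Amp.gen_of_isGenerator hg₀ hy).mres hVU⟩, hxV, hVU.trans hU₁⟩
  choose g hg using fun (V : X.affineOpens) (hV : P V) => hV
  have hθ : ∀ V hV, Function.Bijective (tsecLin E L (g V hV)) := fun V hV =>
    bijective_tsecLin hEq hLq V.2 (hg V hV)
  let θ := fun V hV => LinearEquiv.ofBijective (tsecLin E L (g V hV)) (hθ V hV)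
  let Φ : ∀ V : X.affineOpens, P V → (⋀[Γ(X, V.1)]^n Γ(CohB1.tensorMod E L, V.1) →ₗ[Γ(X, V.1)]
      Γ(CohB1.tensorMod D (CohB1.tensorPow L n), V.1)) := fun V hV =>
    (tsecLin D (CohB1.tensorPow L n) (pw (g V hV) n)) ∘ₗ (φ V).symm.toLinearMap ∘ₗ
      exteriorPower.map n (θ V hV).symm.toLinearMap
  refine Wedge2.isExtPow_of_basis hP (M2.isQCoh_tensor hEq hLq) (M2.isQCoh_tensor hDq hLnq) Φ
    (fun V hV => ?_) fun V hV W hW h v => ?_
  · show Function.Bijective (⇑(tsecLin D (CohB1.tensorPow L n) (pw (g V hV) n)) ∘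
      (⇑(φ V).symm ∘ ⇑(exteriorPower.map n (θ V hV).symm.toLinearMap)))
    refine Function.Bijective.comp ?_ ((φ V).symm.bijective.comp ?_)
    · exact bijective_tsecLin hDq hLnq V.2
        (Twist.isGen_of_stalk fun y hy => Amp.gen_pw hL hy _ n ((hg V hV).stalk hy))
    · refine Function.bijective_iff_has_inverse.2 ⟨exteriorPower.map n (θ V hV).toLinearMap, fun x => ?_, fun x => ?_⟩
      · show ((exteriorPower.map n (θ V hV).toLinearMap).comp (exteriorPower.map n (θ V hV).symm.toLinearMap)) x = x
        rw [← exteriorPower.map_comp, LinearEquiv.comp_coe, LinearEquiv.symm_trans_self, LinearEquiv.refl_toLinearMap, exteriorPower.map_id]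
        rfl
      · show ((exteriorPower.map n (θ V hV).symm.toLinearMap).comp (exteriorPower.map n (θ V hV).toLinearMap)) x = x
        rw [← exteriorPower.map_comp, LinearEquiv.comp_coe, LinearEquiv.self_trans_symm, LinearEquiv.refl_toLinearMap, exteriorPower.map_id]
        rfl
  · obtain ⟨c, hc⟩ := ((hg W hW) W.1 le_rfl).2 (M1.mres L h (g V hV))
    simp only [M1.mres_id] at hc
    let a := fun j => (θ V hV).symm (v j)
    have ha : ∀ j, v j = tsec E L (a j) (g V hV) := fun j => ((θ V hV).apply_symm_apply (v j)).symm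
    have hres : ∀ j, (θ W hW).symm (M1.mres _ h (v j)) = c • M1.mres E h (a j) := fun j => by
      rw [LinearEquiv.symm_apply_eq, ha]
      refine (M2.res_tsec h _ _).trans ?_
      show tsec E L (M1.mres E h (a j)) (M1.mres L h (g V hV)) = tsec E L (c • M1.mres E h (a j)) (g W hW)
      rw [← hc, M2.tsec_smul_right, M2.tsec_smul_left]
    have hL' : ∀ (U : X.affineOpens) (hU : P U) w, Φ U hU (ιMulti _ n w) = tsec D (CohB1.tensorPow L n)
        ((φ U).symm (ιMulti _ n fun j => (θ U hU).symm (w j))) (pw (g U hU) n) := fun U hU w => by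
      show tsec D _ ((φ U).symm (exteriorPower.map n _ (ιMulti _ n w))) _ = _
      rw [exteriorPower.map_apply_ιMulti]
      rfl
    rw [hL', hL']
    refine (M2.res_tsec h _ _).trans ?_
    simp only [hres]
    have e1 : ιMulti Γ(X, W.1) n (fun j => c • M1.mres E h (a j)) = c ^ n • ιMulti Γ(X, W.1) n fun j => M1.mres E h (a j) := by
      rw [AlternatingMap.map_smul_univ, Finset.prod_const, Finset.card_univ, Fintype.card_fin]
    rw [e1, map_smul, ← hφ V W h a]
    show tsec D _ (M1.mres D h _) (M2.res _ h (pw (g V hV) n)) = _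
    rw [Amp.res_pw, show M2.res L h (g V hV) = c • g W hW from hc.symm, Amp.pw_smul, M2.tsec_smul_right]
    exact (M2.tsec_smul_left _ _ _).symm

end Groth.Agent.Euler2
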