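import Groth.Agent.Lib.Euler2.Pn
import Groth.Agent.Lib.Euler2.DetLine
import Groth.Agent.Lib.DetSES2.Main
import Groth.Agent.Lib.Wedge2.Exists
import Groth.Agent.Lib.Twist.Tensor
import Groth.Agent.Lib.Twist.ProjSpace
import Groth.Agent.Lib.Omega12.LocFree
import Groth.Agent.Lib.Omega12.Universal
import Groth.Agent.Lib.ExtFil4.Uniq

/-!
The determinant of the differentials of projective space over a ring.
-/

set_option autoImplicit false
set_option linter.style.haveILetI false
set_option backward.isDefEq.respectTransparency false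
set_option backward.isDefEq.respectTransparency.types false
set_option synthInstance.maxHeartbeats 400000
set_option maxHeartbeats 1600000

universe u

open CategoryTheory Limits AlgebraicGeometry TopologicalSpace Opposite exteriorPower

noncomputable section

namespace Groth.Agent.Euler2

open P1Split (IsBas)

/-- The top exterior power of a free module on an affine scheme is trivial. -/
theorem nonempty_top_iso_of_isBas {X : Scheme.{u}} (hX : IsAffineOpen (⊤ : X.Opens)) {m : ℕ} {E L : X.Modules}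
    {e : Fin m → Γ(E, ⊤)} (he : IsBas E ⊤ e) (hL : ExtPow.IsExtPow m E L) :
    Nonempty (L ≅ Coh.structureModule X) := by
  obtain ⟨φ, hφ⟩ := ExtFil4.exists_phi hL
  let U : X.affineOpens := ⟨⊤, hX⟩
  have h := DetDeg13.gen_top_wedge φ hφ U he
  have hg : Twist.IsGen L ⊤ ((φ U).symm (ιMulti _ m e)) := Twist.isGen_of_stalk h
  exact Twist.nonempty_iso_of_generator L _ fun V => hg V le_top

variable (n : ℕ) (R : Type u) [CommRing R]

/-- `det Ω ≅ O(-n-1)` on projective space over a ring. -/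
theorem nonempty_det_omega_projSpace [QuasiSeparated (CohB1.ProjSpace.toSpec n R)]
    {L : (CohB1.ProjSpace n R).Modules}
    (hL : ExtPow.IsExtPow n (Omega.sheaf (CohB1.ProjSpace.toSpec n R)) L) :
    Nonempty (L ≅ _root_.Twist.twistProjSpace n R (-(n : ℤ) - 1)) := by
  let p := CohB1.ProjSpace.toSpec n R
  let 𝒜 := CohB1.polyGrading n R
  let O1 := _root_.Twist.twistProjSpace n R 1
  let F := FlatMod.freeMod (Spec (CommRingCat.of R)) (n + 1)
  haveI := ProjSpace.smoothOfRelativeDimension_toSpec n R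
  have hd := Omega12.isUniversal_dOmega (f := p)
  have hΩ : FlatMod.IsFinLocFreeOfRank n (Omega.sheaf p) :=
    Omega12.isFinLocFreeOfRank_receptacle_of_smooth (f := p) hd n
  have hO1 : PicF.IsInvertible O1 := Twist.isInvertible_twistProjSpace n R 1
  obtain ⟨u, hu, ⟨α⟩⟩ := exists_euler_projSpace n R hd
  have hK : FlatMod.IsFinLocFreeOfRank n (kernel u) := by
    have := M2.isFinLocFreeOfRank_tensor hΩ ((M2.isInvertible_iff_isFinLocFreeOfRank_one _).1 hO1)
    rw [Nat.mul_one] at this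
    exact M2.isFinLocFreeOfRank_of_iso α this
  have hF : FlatMod.IsFinLocFree F := isFinLocFree_freeMod _ _
  have hFq : Coh.IsQCoh F := M2.isQCoh_of_isFinLocFree hF
  let DF := Wedge2.extMod (n + 1) F
  have hDF : ExtPow.IsExtPow (n + 1) F DF := Wedge2.isExtPow_extMod (n + 1) F
  obtain ⟨b, u', hb, -⟩ := exists_taut n R
  obtain ⟨t⟩ := nonempty_top_iso_of_isBas (isAffineOpen_top _) hb hDF
  let S : ShortComplex (CohB1.ProjSpace n R).Modules :=
    ShortComplex.mk (kernel.ι u) u (kernel.condition u)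
  have hS : S.ShortExact := ShortComplex.ShortExact.mk' (ShortComplex.exact_kernel u) inferInstance hu
  have hDK : ExtPow.IsExtPow n (kernel u) (CohB1.tensorMod L (CohB1.tensorPow O1 n)) :=
    Wedge2.isExtPow_of_iso α (Iso.refl _) (isExtPow_tensor_line (M2.isQCoh_of_isFinLocFree (M2.isFinLocFree_of_ofRank hΩ)) hO1 hL)
  have hLi := Wedge2.isInvertible_top hΩ hL
  obtain ⟨e⟩ := DetSES2.nonempty_det_iso S hS (n := n + 1) (p := n) (q := 1) rfl hK
    (M2.isFinLocFree_pullback p hF) ((M2.isInvertible_iff_isFinLocFreeOfRank_one _).1 hO1) hDK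
    (Wedge2.isExtPow_pullback' p hFq hDF) (ExtFil4.isExtPow_one O1)
    (M2.isFinLocFree_of_isInvertible (M2.isInvertible_tensor hLi (M2.isInvertible_tensorPow hO1 n)))
    (M2.isFinLocFree_of_isInvertible hO1)
  have hcov := Twist.iSup_basicOpen_one n R
  obtain ⟨tn⟩ := Twist.nonempty_iso_tensorPow 𝒜 hcov n
  obtain ⟨t1⟩ := Twist.nonempty_tensor_iso 𝒜 (n : ℤ) 1 hcov
  obtain ⟨tc⟩ := Twist.nonempty_tensor_iso 𝒜 ((n : ℤ) + 1) (-(n : ℤ) - 1) hcov
  obtain ⟨t0⟩ := Twist.nonempty_twist_zero_iso 𝒜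
  let T := _root_.Twist.twist 𝒜 ((n : ℤ) + 1)
  let N := _root_.Twist.twist 𝒜 (-(n : ℤ) - 1)
  let a : CohB1.tensorMod L T ≅ Coh.structureModule _ :=
    M2.tensorIso (Iso.refl L) (t1.symm ≪≫ M2.tensorIso tn (Iso.refl _)) ≪≫ (M2.tensorAssoc _ _ _).symm ≪≫ e.symm ≪≫
      (Scheme.Modules.pullback p).mapIso t ≪≫ Twist.pullbackUnitIso p
  exact ⟨(M2.tensorRUnit L).symm ≪≫
    M2.tensorIso (Iso.refl L) (t0.symm ≪≫ eqToIso (congrArg (_root_.Twist.twist 𝒜) (by ring)) ≪≫ tc.symm) ≪≫
    (M2.tensorAssoc _ _ _).symm ≪≫ M2.tensorIso a (Iso.refl N) ≪≫ M2.tensorComm _ _ ≪≫ M2.tensorRUnit N⟩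

end Groth.Agent.Euler2
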