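import Groth.Agent.Lib.DetSES2.Main
import Groth.Agent.Lib.TensorMod.Invertible

/-!
The exterior powers of an extension with invertible quotient:
`0 ⟶ Λ^{p+1} E' ⟶ Λ^{p+1} E ⟶ Λ^p E' ⊗ L ⟶ 0`.
-/

set_option autoImplicit false
set_option linter.style.haveILetI false
set_option linter.unusedSectionVars false
set_option backward.isDefEq.respectTransparency false
set_option backward.isDefEq.respectTransparency.types false
set_option maxHeartbeats 800000

universe u

open CategoryTheory Limits AlgebraicGeometry Opposite TopologicalSpace TensorProduct exteriorPower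

namespace Groth.Agent.Euler2

open ExtFil4
open KoszShH13 (appLin IsAffBasis exists_glue)

section Alg

variable {A E' E E'' : Type u} [CommRing A] [AddCommGroup E'] [Module A E'] [AddCommGroup E] [Module A E]
  [AddCommGroup E''] [Module A E''] {f : E' →ₗ[A] E} {g : E →ₗ[A] E''} (r : E →ₗ[A] E') (s : E'' →ₗ[A] E)
  (hgf : ∀ x, g (f x) = 0) (hr : ∀ x, r (f x) = x) (hs : ∀ y, g (s y) = y)
  (hk : ∀ x, g x = 0 → x ∈ LinearMap.range f) (b'' : Module.Basis (Fin 1) A E'') {p n : ℕ} (hn : p + 1 = n)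

include hgf hr hs hk b'' hn

theorem mem_Fil_line (x : ⋀[A]^n E) : x ∈ Fil f n p := by
  suffices ∀ k, k ≤ p → x ∈ Fil f n k from this p le_rfl
  intro k
  induction k with
  | zero => exact fun _ => by rw [Fil_zero]; trivial
  | succ k ih =>
    intro h
    haveI : Subsingleton (⋀[A]^k E' ⊗[A] ⋀[A]^(n - k) E'') := by
      haveI := DetSES2.subsingleton_exterior b'' (show 1 < n - k by omega)
      infer_instance
    exact (mem_Fil_succ_iff r hgf s (Nat.add_sub_of_le (show k ≤ n by omega)) hr hs hk (ih (by omega))).2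
      (Subsingleton.elim _ _)

theorem mem_range_map_iff (x : ⋀[A]^n E) :
    x ∈ LinearMap.range (exteriorPower.map n f) ↔ delta r g hn x = 0 := by
  rw [← mem_Fil_succ_iff r hgf s hn hr hs hk (mem_Fil_line r s hgf hr hs hk b'' hn x), hn]
  suffices LinearMap.range (exteriorPower.map n f) = Fil f n n by rw [this]
  refine le_antisymm ?_ (Submodule.span_le.2 ?_)
  · rw [LinearMap.range_eq_map, ← ιMulti_span A n E', Submodule.map_span, Submodule.span_le]
    rintro _ ⟨_, ⟨v, rfl⟩, rfl⟩
    rw [exteriorPower.map_apply_ιMulti]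
    exact ιMulti_mem_Fil le_rfl fun i _ => ⟨v i, rfl⟩
  · rintro _ ⟨v, ⟨-, hv⟩, rfl⟩
    choose w hw using fun i : Fin n => hv i i.2
    exact ⟨ιMulti A n w, by rw [exteriorPower.map_apply_ιMulti]; exact congrArg _ (funext hw)⟩

theorem surjective_delta : Function.Surjective (delta r g hn) :=
  fun t => ⟨_, delta_sigma r hgf s hn hr hs t⟩

end Alg

variable {X : Scheme.{u}}

/-- The exterior powers of an extension by an invertible module. -/
theorem exists_wedge_ses (S : ShortComplex X.Modules) (hS : S.ShortExact) {p n : ℕ} (hn : p + 1 = n)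
    (h₂ : FlatMod.IsFinLocFree S.X₂) (h₃ : FlatMod.IsFinLocFreeOfRank 1 S.X₃) {A B C : X.Modules}
    (hA : ExtPow.IsExtPow n S.X₁ A) (hB : ExtPow.IsExtPow n S.X₂ B) (hC : ExtPow.IsExtPow p S.X₁ C)
    (hCq : Coh.IsQCoh C) :
    ∃ (ι : A ⟶ B) (π : B ⟶ CohB1.tensorMod C S.X₃) (w : ι ≫ π = 0), (ShortComplex.mk ι π w).ShortExact := by
  obtain ⟨φA, hφA⟩ := exists_phi hA
  obtain ⟨φ, hφ⟩ := exists_phi hB
  obtain ⟨φ', hφ'⟩ := exists_phi hC
  obtain ⟨φ'', hφ''⟩ := exists_phi (isExtPow_one S.X₃)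
  let T := CohB1.tensorMod C S.X₃
  let P : X.affineOpens → Prop := fun U => Nonempty (Module.Basis (Fin 1) Γ(X, U.1) Γ(S.X₃, U.1))
  have hP : IsAffBasis P := by
    intro O x hx
    obtain ⟨D₃, e₃, hx₃, he₃⟩ := P1Split.exists_isBas_nhd h₃ x
    obtain ⟨V, hV, hxV, hVle⟩ := exists_isAffineOpen_mem_and_subset (U := O ⊓ D₃) (x := x) ⟨hx, hx₃⟩
    have h : V ≤ O ⊓ D₃ := hVle
    exact ⟨⟨V, hV⟩, DetSES2.nonempty_basis' (h.trans inf_le_right) he₃, hxV, h.trans inf_le_left⟩
  have h₃f : FlatMod.IsFinLocFree S.X₃ := fun x => by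
    obtain ⟨U, hxU, hU⟩ := h₃ x; exact ⟨U, 1, hxU, hU⟩
  have hq₃ := M2.isQCoh_of_isFinLocFree h₃f
  have hb := bijective_tens φ' φ'' hCq hq₃
  let sp : ∀ U, P U → Split S U.1 := fun U hU =>
    (nonempty_split hS (M2.isQCoh_of_isFinLocFree h₂) hq₃ U (Module.Free.of_basis hU.some)).some
  let fam : ∀ U, P U → (Γ(B, U.1) →ₗ[Γ(X, U.1)] Γ(T, U.1)) := fun U hU =>
    (tens φ' φ'' U).comp ((delta (sp U hU).r (appLin S.g U.1) hn).comp (φ U).toLinearMap)
  obtain ⟨π, hπ⟩ := exists_glue hP (fun U hU => (fam U hU).toAddMonoidHom)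
    (fun U hU c m => (fam U hU).map_smul c m) (fun U hU V hV h m => by
      show M1.mres T h (tens φ' φ'' U (delta (sp U hU).r (appLin S.g U.1) hn (φ U m))) =
        tens φ' φ'' V (delta (sp V hV).r (appLin S.g V.1) hn (φ V (M1.mres B h m)))
      let eV := LinearEquiv.ofBijective (tens φ' φ'' V) (hb V)
      let τ := eV.symm.toLinearMap.toAddMonoidHom.comp
        ((AddCommGrpCat.Hom.hom (M1.mres T h)).comp (tens φ' φ'' U).toAddMonoidHom)
      have hτ' : ∀ x, tens φ' φ'' V (τ x) = M1.mres T h (tens φ' φ'' U x) := fun x => eV.apply_symm_apply _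
      have key := map_delta (sp U hU).r (g := appLin S.g U.1) (f := appLin S.f U.1) (hgf S U.1) (hgf S V.1) (sp V hV).r
        (sp U hU).hr (sp V hV).hr hn (M1.ores h).hom (M1.mres S.X₁ h) (M1.mres S.X₂ h) (M1.mres S.X₃ h)
        (fun x => (M1.map_app_eq S.f h x).symm) (fun x => (M1.map_app_eq S.g h x).symm)
        (rho φ U V h) (rho_smul φ U V h)
        (fun v => by
          rw [rho_apply, hφ U V h v, LinearEquiv.apply_symm_apply])
        τ (fun c x => (hb V).1 (by rw [hτ', map_smul, res_smul, map_smul, hτ']))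
        (fun a b => (hb V).1 (by rw [hτ']; exact res_tens φ' φ'' hφ' hφ'' U V h a b))
        (mem_Fil_line (sp U hU).r (sp U hU).s (hgf S U.1) (sp U hU).hr (sp U hU).hs (hker hS U.1) hU.some hn (φ U m))
      rw [← hτ', key]
      refine congrArg (fun z => tens φ' φ'' V (delta (sp V hV).r (appLin S.g V.1) hn z)) ?_
      rw [rho_apply, LinearEquiv.symm_apply_apply])
  let famA : ∀ U : X.affineOpens, (Γ(A, U.1) →ₗ[Γ(X, U.1)] Γ(B, U.1)) := fun U =>
    (φ U).symm.toLinearMap.comp ((exteriorPower.map n (appLin S.f U.1)).comp (φA U).toLinearMap)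
  obtain ⟨ι, hι⟩ := exists_glue hP (fun U _ => (famA U).toAddMonoidHom)
    (fun U _ c m => (famA U).map_smul c m) (fun U _ V _ h m => by
      show M1.mres B h ((φ U).symm (exteriorPower.map n (appLin S.f U.1) (φA U m))) =
        (φ V).symm (exteriorPower.map n (appLin S.f V.1) (φA V (M1.mres A h m)))
      obtain ⟨x, rfl⟩ := (φA U).symm.surjective m
      rw [LinearEquiv.apply_symm_apply]
      have hx : x ∈ Submodule.span Γ(X, U.1) (Set.range (ιMulti Γ(X, U.1) n (M := Γ(S.X₁, U.1)))) := by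
        rw [ιMulti_span]; trivial
      induction hx using Submodule.span_induction with
      | zero => simp only [map_zero]
      | add x y _ _ hx hy => simp only [map_add, hx, hy]
      | smul c x _ hx => simp only [map_smul, res_smul, hx]
      | mem x hx =>
        obtain ⟨v, rfl⟩ := hx
        rw [hφA U V h v, LinearEquiv.apply_symm_apply, exteriorPower.map_apply_ιMulti,
          exteriorPower.map_apply_ιMulti, hφ U V h]
        refine congrArg (fun w => (φ V).symm (ιMulti Γ(X, V.1) n w)) (funext fun j => ?_)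
        exact M1.map_app_eq S.f h (v j) |>.symm)
  have hinj : ∀ U, P U → Function.Injective (ι.app U.1) := fun U hU a b hab => by
    have hab' : famA U a = famA U b := (hι U hU a).symm.trans (hab.trans (hι U hU b))
    exact (φA U).injective (exteriorPower.map_injective (sp U hU).r (LinearMap.ext (sp U hU).hr)
      ((φ U).symm.injective hab'))
  have hker' : ∀ U, P U → ∀ m, π.app U.1 m = 0 ↔ ∃ a, ι.app U.1 a = m := fun U hU m => by
    rw [hπ U hU m]
    show tens φ' φ'' U (delta (sp U hU).r (appLin S.g U.1) hn (φ U m)) = 0 ↔ _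
    rw [(map_eq_zero_iff _ (hb U).1), ← mem_range_map_iff (sp U hU).r (sp U hU).s (hgf S U.1) (sp U hU).hr (sp U hU).hs
      (hker hS U.1) hU.some hn]
    constructor
    · rintro ⟨y, hy⟩
      refine ⟨(φA U).symm y, (hι U hU _).trans ?_⟩
      show (φ U).symm (exteriorPower.map n (appLin S.f U.1) (φA U ((φA U).symm y))) = m
      rw [LinearEquiv.apply_symm_apply, hy, LinearEquiv.symm_apply_apply]
    · rintro ⟨a, rfl⟩
      refine ⟨φA U a, ?_⟩
      rw [hι U hU a]
      exact ((φ U).apply_symm_apply _).symm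
  have w : ι ≫ π = 0 := KoszShH13.hom_ext_basis hP fun U hU a =>
    ((hker' U hU _).2 ⟨a, rfl⟩).trans rfl
  haveI : Epi π := (M1.epi_iff_locally_surjective π).2 fun O t x hx => by
    obtain ⟨V, hV, hxV, hVO⟩ := hP O x hx
    obtain ⟨z, hz⟩ := (hb V).2 (M1.mres T hVO t)
    obtain ⟨y, hy⟩ := surjective_delta (sp V hV).r (sp V hV).s (hgf S V.1) (sp V hV).hr (sp V hV).hs
      (hker hS V.1) hV.some hn z
    refine ⟨V.1, hVO, hxV, (φ V).symm y, (hπ V hV _).trans ?_⟩
    show tens φ' φ'' V (delta (sp V hV).r (appLin S.g V.1) hn (φ V ((φ V).symm y))) = _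
    rw [LinearEquiv.apply_symm_apply, hy, hz]
  let C' := ShortComplex.mk (kernel.ι π) π (kernel.condition π)
  have hC' : C'.ShortExact := { exact := ShortComplex.exact_kernel π }
  haveI := hC'.mono_f
  let l : A ⟶ kernel π := kernel.lift π ι w
  have hl : l ≫ kernel.ι π = ι := kernel.lift_ι _ _ _
  have hlapp : ∀ U : X.Opens, ∀ a, (kernel.ι π).app U (l.app U a) = ι.app U a := fun U a =>
    congrArg (fun χ : A ⟶ B => χ.app U a) hl
  haveI : IsIso l := (M1.isIso_iff_stalk l).2 fun x =>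
    KoszShH13.bijective_stalk_of_basis hP l x fun U hU _ => by
      refine ⟨fun a b hab => hinj U hU ?_, fun z => ?_⟩
      · rw [← hlapp, ← hlapp, hab]
      · obtain ⟨a, ha⟩ := (hker' U hU ((kernel.ι π).app U.1 z)).1
          (congrArg (fun χ : kernel π ⟶ T => χ.app U.1 z) (kernel.condition π))
        exact ⟨a, M1.app_injective (kernel.ι π) U.1 ((hlapp _ _).trans ha)⟩
  let e : C' ≅ ShortComplex.mk ι π w := ShortComplex.isoMk (asIso l).symm (Iso.refl _) (Iso.refl _)
    (by simp [C', ← hl]) (by simp [C'])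
  exact ⟨ι, π, w, ShortComplex.shortExact_of_iso e hC'⟩

end Groth.Agent.Euler2
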