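import Groth.Agent.Lib.Euler2.PnDet
import Groth.Agent.Lib.Euler2.WedgeSES
import Groth.Agent.Lib.CohFound.SerreVan
import Groth.Agent.Lib.CurveCoh17.LES
import Groth.Agent.Lib.CurveCoh17.Bases
import Groth.Agent.S0844
import Groth.Agent.S0845

/-!
The cohomology of the twisted differential forms of projective space.
-/

set_option autoImplicit false
set_option linter.style.haveILetI false
set_option linter.unusedSectionVars false
set_option backward.isDefEq.respectTransparency false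
set_option backward.isDefEq.respectTransparency.types false
set_option synthInstance.maxHeartbeats 400000
set_option maxHeartbeats 1600000

universe u

open CategoryTheory Limits AlgebraicGeometry TopologicalSpace Opposite exteriorPower

noncomputable section

attribute [local instance] Abelian.hasFiniteBiproducts

namespace Groth.Agent.Euler2

open CurveCoh17 (hmap hdelta hequiv)

variable (n : ℕ) (R : Type u) [CommRing R]

local notation "Pn" => CohB1.ProjSpace n R
local notation "O(" d ")" => _root_.Twist.twistProjSpace n R d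

/-- `Ω^j` of projective space. -/
abbrev Om (j : ℕ) : (CohB1.ProjSpace n R).Modules :=
  Wedge2.extMod j (Omega.sheaf (CohB1.ProjSpace.toSpec n R))

variable {n R}

theorem subsingleton_HH_iso {M N : (CohB1.ProjSpace n R).Modules} (e : M ≅ N) {q : ℕ}
    (h : Subsingleton (Coh.HH Pn M q)) : Subsingleton (Coh.HH Pn N q) :=
  (hequiv R e q).symm.toEquiv.subsingleton

theorem subsingleton_HH_of_isZero {M : (CohB1.ProjSpace n R).Modules} (h : IsZero M) (q : ℕ) :
    Subsingleton (Coh.HH Pn M q) :=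
  subsingleton_of_forall_eq 0 fun x => by
    rw [← CurveCoh17.hmap_id R M q x, h.eq_of_src (𝟙 M) 0, CurveCoh17.hmap_zero]

theorem hmap_add {M N : (CohB1.ProjSpace n R).Modules} (φ ψ : M ⟶ N) (q : ℕ) (x : Coh.HH Pn M q) :
    hmap R (φ + ψ) q x = hmap R φ q x + hmap R ψ q x := by
  apply (CohFound.hhExt N q).injective
  rw [CurveCoh17.hhExt_hmap, map_add, CurveCoh17.hhExt_hmap, CurveCoh17.hhExt_hmap, Functor.map_add,
    CohFound.mp_add]

/-- A finite free module twisted by `E` has no cohomology where `E` has none. -/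
theorem subsingleton_HH_freeMod_tensor (N : ℕ) (E : (CohB1.ProjSpace n R).Modules) {q : ℕ}
    (h : Subsingleton (Coh.HH Pn E q)) :
    Subsingleton (Coh.HH Pn (CohB1.tensorMod (FlatMod.freeMod Pn N) E) q) := by
  let G := fun _ : Fin N => Coh.structureModule Pn
  refine subsingleton_HH_iso (M := (M2.tensorR E).obj (⨁ G))
    ((M2.tensorR E).mapIso (biproduct.isoCoproduct G)) ?_
  refine subsingleton_of_forall_eq 0 fun x => ?_
  have hz : ∀ i, hmap R ((M2.tensorR E).map (biproduct.π G i ≫ biproduct.ι G i)) q x = 0 := fun i => by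
    rw [Functor.map_comp, CurveCoh17.hmap_comp]
    haveI : Subsingleton (Coh.HH Pn ((M2.tensorR E).obj (G i)) q) :=
      subsingleton_HH_iso (M2.tensorLUnit E).symm h
    rw [Subsingleton.elim (hmap R _ q x) 0, map_zero]
  have hs : ∀ t : Finset (Fin N), hmap R ((M2.tensorR E).map (∑ i ∈ t, biproduct.π G i ≫ biproduct.ι G i)) q x = 0 := by
    intro t
    induction t using Finset.cons_induction with
    | empty => rw [Finset.sum_empty, Functor.map_zero, CurveCoh17.hmap_zero]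
    | cons a t ha ih => rw [Finset.sum_cons, Functor.map_add, hmap_add, ih, hz, add_zero]
  rw [← hs Finset.univ, biproduct.total, CategoryTheory.Functor.map_id, CurveCoh17.hmap_id]

section SES

variable {S : ShortComplex (CohB1.ProjSpace n R).Modules} (hS : S.ShortExact)
include hS

theorem sub_right {q : ℕ} (h₂ : Subsingleton (Coh.HH Pn S.X₂ q)) (h₁ : Subsingleton (Coh.HH Pn S.X₁ (q + 1))) :
    Subsingleton (Coh.HH Pn S.X₃ q) :=
  subsingleton_of_forall_eq 0 fun x => by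
    obtain ⟨y, rfl⟩ := (CurveCoh17.exact_hmap_hdelta R hS q x).1 (Subsingleton.elim _ _)
    rw [Subsingleton.elim y 0, map_zero]

theorem sub_left {q : ℕ} (h₂ : Subsingleton (Coh.HH Pn S.X₂ (q + 1))) (h₃ : Subsingleton (Coh.HH Pn S.X₃ q)) :
    Subsingleton (Coh.HH Pn S.X₁ (q + 1)) :=
  subsingleton_of_forall_eq 0 fun x => by
    obtain ⟨y, rfl⟩ := (CurveCoh17.exact_hdelta_hmap R hS q x).1 (Subsingleton.elim _ _)
    rw [Subsingleton.elim y 0, map_zero]

theorem sub_left₀ (h₂ : Subsingleton (Coh.HH Pn S.X₂ 0)) : Subsingleton (Coh.HH Pn S.X₁ 0) :=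
  (CurveCoh17.hmap_f_injective R hS).subsingleton

theorem nonempty_delta_equiv {q : ℕ} (h₂ : Subsingleton (Coh.HH Pn S.X₂ q))
    (h₂' : Subsingleton (Coh.HH Pn S.X₂ (q + 1))) :
    Nonempty (Coh.HH Pn S.X₃ q ≃ₗ[R] Coh.HH Pn S.X₁ (q + 1)) := by
  refine ⟨LinearEquiv.ofBijective (hdelta R hS q) ⟨(injective_iff_map_eq_zero _).2 fun x hx => ?_, fun x => ?_⟩⟩
  · obtain ⟨y, rfl⟩ := (CurveCoh17.exact_hmap_hdelta R hS q x).1 hx
    rw [Subsingleton.elim y 0, map_zero]
  · exact (CurveCoh17.exact_hdelta_hmap R hS q x).1 (Subsingleton.elim _ _)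

end SES

section Forms

variable (n R)

theorem rank_omega : FlatMod.IsFinLocFreeOfRank n (Omega.sheaf (CohB1.ProjSpace.toSpec n R)) := by
  haveI := ProjSpace.smoothOfRelativeDimension_toSpec n R
  haveI : IsProper (CohB1.ProjSpace.toSpec n R) := ProjSpace.isProper_toSpec n R
  exact Omega12.isFinLocFreeOfRank_receptacle_of_smooth (f := CohB1.ProjSpace.toSpec n R)
    (Omega12.isUniversal_dOmega _) n

theorem isQCoh_omega : Coh.IsQCoh (Omega.sheaf (CohB1.ProjSpace.toSpec n R)) :=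
  M2.isQCoh_of_isFinLocFree (M2.isFinLocFree_of_ofRank (rank_omega n R))

theorem isExtPow_Om (j : ℕ) : ExtPow.IsExtPow j (Omega.sheaf (CohB1.ProjSpace.toSpec n R)) (Om n R j) := by
  haveI := isQCoh_omega n R
  exact Wedge2.isExtPow_extMod j _

theorem isZero_Om {j : ℕ} (hj : n < j) : IsZero (Om n R j) := by
  obtain ⟨φ, -⟩ := ExtFil4.exists_phi (isExtPow_Om n R j)
  let P : (CohB1.ProjSpace n R).affineOpens → Prop := fun U =>
    Nonempty (Module.Basis (Fin n) Γ(Pn, U.1) Γ(Omega.sheaf (CohB1.ProjSpace.toSpec n R), U.1))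
  have hP : KoszShH13.IsAffBasis P := fun O x hx => by
    obtain ⟨D, e, hxD, he⟩ := P1Split.exists_isBas_nhd (rank_omega n R) x
    obtain ⟨V, hV, hxV, hVle⟩ := exists_isAffineOpen_mem_and_subset (U := O ⊓ D) (x := x) ⟨hx, hxD⟩
    have h : V ≤ O ⊓ D := hVle
    exact ⟨⟨V, hV⟩, DetSES2.nonempty_basis' (h.trans inf_le_right) he, hxV, h.trans inf_le_left⟩
  rw [IsZero.iff_id_eq_zero]
  refine KoszShH13.hom_ext_basis hP fun U hU m => ?_
  haveI := DetSES2.subsingleton_exterior hU.some hj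
  exact ((φ U).toEquiv.subsingleton).elim _ _

theorem nonempty_Om_tensor_zero (j : ℕ) : Nonempty (CohB1.tensorMod (Om n R j) O(0) ≅ Om n R j) := by
  obtain ⟨z⟩ := Twist.nonempty_twist_zero_iso (CohB1.polyGrading n R)
  exact ⟨M2.tensorIso (Iso.refl _) z ≪≫ M2.tensorRUnit _⟩

theorem nonempty_Om_zero (d : ℤ) : Nonempty (CohB1.tensorMod (Om n R 0) O(d) ≅ O(d)) := by
  obtain ⟨e⟩ := ExtFil4.isoExtPow (isExtPow_Om n R 0) (ExtFil4.isExtPow_zero _)
  exact ⟨M2.tensorIso e (Iso.refl _) ≪≫ M2.tensorLUnit _⟩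

theorem subsingleton_of_gt {j : ℕ} (hj : n < j) (d : ℤ) (q : ℕ) :
    Subsingleton (Coh.HH Pn (CohB1.tensorMod (Om n R j) O(d)) q) :=
  subsingleton_HH_of_isZero (Functor.map_isZero (M2.tensorR O(d)) (isZero_Om n R hj)) q

/-- The exterior Euler sequences `0 → Ω^{j+1}(d) → O(d-j-1)^N → Ω^j(d) → 0`. -/
theorem exists_ses_free (j : ℕ) (d : ℤ) : ∃ S : ShortComplex (CohB1.ProjSpace n R).Modules, S.ShortExact ∧
    Nonempty (S.X₁ ≅ CohB1.tensorMod (Om n R (j + 1)) O(d)) ∧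
    Nonempty (S.X₃ ≅ CohB1.tensorMod (Om n R j) O(d)) ∧
    Nonempty (S.X₂ ≅ CohB1.tensorMod (FlatMod.freeMod Pn (Nat.choose (n + 1) (j + 1))) O(d - ((j + 1 : ℕ) : ℤ))) := by
  let p := CohB1.ProjSpace.toSpec n R
  let 𝒜 := CohB1.polyGrading n R
  let F := FlatMod.freeMod (Spec (CommRingCat.of R)) (n + 1)
  let O1 := O(1)
  let E := O(d - ((j + 1 : ℕ) : ℤ))
  haveI : IsProper (CohB1.ProjSpace.toSpec n R) := ProjSpace.isProper_toSpec n R
  have hO1 : PicF.IsInvertible O1 := Twist.isInvertible_twistProjSpace n R 1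
  obtain ⟨u, hu, ⟨α⟩⟩ := exists_euler_projSpace n R (Omega12.isUniversal_dOmega (CohB1.ProjSpace.toSpec n R))
  let S₀ : ShortComplex (CohB1.ProjSpace n R).Modules :=
    ShortComplex.mk (kernel.ι u) u (kernel.condition u)
  have hS₀ : S₀.ShortExact := ShortComplex.ShortExact.mk' (ShortComplex.exact_kernel u) inferInstance hu
  have hFq : Coh.IsQCoh F := M2.isQCoh_of_isFinLocFree (isFinLocFree_freeMod _ _)
  have hΛ : ExtPow.IsExtPow (j + 1) F (Wedge2.extMod (j + 1) F) := Wedge2.isExtPow_extMod (j + 1) F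
  have hK : ∀ i, ExtPow.IsExtPow i (kernel u) (CohB1.tensorMod (Om n R i) (CohB1.tensorPow O1 i)) := fun i =>
    Wedge2.isExtPow_of_iso α (Iso.refl _) (isExtPow_tensor_line (isQCoh_omega n R) hO1 (isExtPow_Om n R i))
  obtain ⟨ι, π, w, hW⟩ := exists_wedge_ses S₀ hS₀ (p := j) rfl (M2.isFinLocFree_pullback p (isFinLocFree_freeMod _ _))
    ((M2.isInvertible_iff_isFinLocFreeOfRank_one _).1 hO1) (hK (j + 1)) (Wedge2.isExtPow_pullback' p hFq hΛ) (hK j)
    (M2.isQCoh_tensor (Wedge2.isQCoh_of_isExtPow (isQCoh_omega n R) (isExtPow_Om n R j))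
      (M2.isQCoh_of_isFinLocFree (M2.isFinLocFree_of_isInvertible (M2.isInvertible_tensorPow hO1 j))))
  have hcov := Twist.iSup_basicOpen_one n R
  obtain ⟨tp⟩ := Twist.nonempty_iso_tensorPow 𝒜 hcov (j + 1)
  obtain ⟨tt⟩ := Twist.nonempty_tensor_iso 𝒜 ((j + 1 : ℕ) : ℤ) (d - ((j + 1 : ℕ) : ℤ)) hcov
  let c : CohB1.tensorMod (CohB1.tensorPow O1 (j + 1)) E ≅ O(d) :=
    M2.tensorIso tp.symm (Iso.refl _) ≪≫ tt ≪≫ eqToIso (congrArg (_root_.Twist.twist 𝒜) (by ring))
  refine ⟨(ShortComplex.mk ι π w).map (M2.tensorR E),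
    CohFound.shortExact_tensor_invertible hW (Twist.isInvertible_twistProjSpace n R _),
    ⟨M2.tensorAssoc _ _ _ ≪≫ M2.tensorIso (Iso.refl _) c⟩,
    ⟨M2.tensorIso (M2.tensorAssoc _ _ _) (Iso.refl _) ≪≫ M2.tensorAssoc _ _ _ ≪≫ M2.tensorIso (Iso.refl _) c⟩,
    ?_⟩
  obtain ⟨φ, -⟩ := ExtFil4.exists_phi hΛ
  let U : (Spec (CommRingCat.of R)).affineOpens := ⟨⊤, isAffineOpen_top _⟩
  obtain ⟨b, -, -, -⟩ := exists_taut n R
  let bΛ := ((b.exteriorPower (j + 1)).map (φ U).symm).reindex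
    (Fintype.equivFin (Set.powersetCard (Fin (n + 1)) (j + 1)))
  have hbas := BlowKoszul2.isBas_of_basis (Wedge2.isQCoh_of_isExtPow hFq hΛ) U.2 bΛ
  obtain ⟨ψ⟩ := CurveCoh17.nonempty_iso_freeMod_of_isBas (AmpleFin18.isBas_pullback p hbas)
  have hN : Fintype.card (Set.powersetCard (Fin (n + 1)) (j + 1)) = Nat.choose (n + 1) (j + 1) := by
    rw [← Nat.card_eq_fintype_card, Set.powersetCard.card, Nat.card_eq_fintype_card, Fintype.card_fin]
  exact ⟨((M2.tensorR E).mapIso ψ).symm ≪≫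
    (M2.tensorR E).mapIso (eqToIso (congrArg (FlatMod.freeMod Pn) hN))⟩

theorem exists_ses (j : ℕ) (d : ℤ) : ∃ S : ShortComplex (CohB1.ProjSpace n R).Modules, S.ShortExact ∧
    Nonempty (S.X₁ ≅ CohB1.tensorMod (Om n R (j + 1)) O(d)) ∧
    Nonempty (S.X₃ ≅ CohB1.tensorMod (Om n R j) O(d)) ∧
    ∀ q, Subsingleton (Coh.HH Pn O(d - ((j + 1 : ℕ) : ℤ)) q) → Subsingleton (Coh.HH Pn S.X₂ q) := by
  obtain ⟨S, hS, e₁, e₃, ⟨e₂⟩⟩ := exists_ses_free n R j d
  exact ⟨S, hS, e₁, e₃, fun q hq => subsingleton_HH_iso e₂.symm (subsingleton_HH_freeMod_tensor _ _ hq)⟩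

/-- Cohomology of twists. -/
theorem twist_van {d : ℤ} {q : ℕ} (h₀ : ¬ (q = 0 ∧ 0 ≤ d)) (hn : ¬ (q = n ∧ d ≤ -((n : ℤ) + 1))) :
    Subsingleton (Coh.HH Pn O(d) q) :=
  S0844.result R n d q h₀ hn

/-- `H^q(Ω^j(d)) = 0` for `q > 0`, `d > 0`. -/
theorem van_pos {d : ℤ} (hd : 0 < d) (j q : ℕ) (hq : 0 < q) :
    Subsingleton (Coh.HH Pn (CohB1.tensorMod (Om n R j) O(d)) q) := by
  induction h : (n + 1 - j) generalizing j q with
  | zero => exact subsingleton_of_gt n R (by omega) d q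
  | succ m ih =>
    obtain ⟨S, hS, ⟨e₁⟩, ⟨e₃⟩, h₂⟩ := exists_ses n R j d
    exact subsingleton_HH_iso e₃ (sub_right hS (h₂ q (twist_van n R (by omega) (by omega)))
      (subsingleton_HH_iso e₁.symm (ih (j + 1) (q + 1) (by omega) (by omega))))

/-- `H^q(Ω^j(d)) = 0` for `q > n`. -/
theorem van_gt {d : ℤ} (j q : ℕ) (hq : n < q) : Subsingleton (Coh.HH Pn (CohB1.tensorMod (Om n R j) O(d)) q) := by
  induction h : (n + 1 - j) generalizing j q with
  | zero => exact subsingleton_of_gt n R (by omega) d q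
  | succ m ih =>
    obtain ⟨S, hS, ⟨e₁⟩, ⟨e₃⟩, h₂⟩ := exists_ses n R j d
    exact subsingleton_HH_iso e₃ (sub_right hS (h₂ q (twist_van n R (by omega) (by omega)))
      (subsingleton_HH_iso e₁.symm (ih (j + 1) (q + 1) (by omega) (by omega))))

/-- `H^q(Ω^j(d)) = 0` for `q < n`, `d < 0`. -/
theorem van_neg {d : ℤ} (hd : d < 0) (j q : ℕ) (hq : q < n) :
    Subsingleton (Coh.HH Pn (CohB1.tensorMod (Om n R j) O(d)) q) := by
  induction q generalizing j with
  | zero =>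
    cases j with
    | zero => obtain ⟨e⟩ := nonempty_Om_zero n R d; exact subsingleton_HH_iso e.symm (twist_van n R (by omega) (by omega))
    | succ j =>
      obtain ⟨S, hS, ⟨e₁⟩, -, h₂⟩ := exists_ses n R j d
      exact subsingleton_HH_iso e₁ (sub_left₀ hS (h₂ 0 (twist_van n R (by omega) (by omega))))
  | succ q ih =>
    cases j with
    | zero => obtain ⟨e⟩ := nonempty_Om_zero n R d; exact subsingleton_HH_iso e.symm (twist_van n R (by omega) (by omega))
    | succ j =>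
      obtain ⟨S, hS, ⟨e₁⟩, ⟨e₃⟩, h₂⟩ := exists_ses n R j d
      exact subsingleton_HH_iso e₁ (sub_left hS (h₂ (q + 1) (twist_van n R (by omega) (by omega)))
        (subsingleton_HH_iso e₃.symm (ih j (by omega))))

theorem van_pos_zero {d : ℤ} (hd : 0 < d) (j : ℕ) (hdj : d ≤ j) :
    Subsingleton (Coh.HH Pn (CohB1.tensorMod (Om n R j) O(d)) 0) := by
  rcases Nat.lt_or_ge n j with h | h
  · exact subsingleton_of_gt n R h d 0
  obtain ⟨S, hS, ⟨e₁⟩, ⟨e₃⟩, h₂⟩ := exists_ses n R j d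
  exact subsingleton_HH_iso e₃ (sub_right hS (h₂ 0 (twist_van n R (by omega) (by omega)))
    (subsingleton_HH_iso e₁.symm (van_pos n R hd (j + 1) 1 one_pos)))

theorem van_neg_top {d : ℤ} (hn : 1 ≤ n) (hd : d < 0) (j : ℕ) (hdj : (j : ℤ) - n ≤ d) :
    Subsingleton (Coh.HH Pn (CohB1.tensorMod (Om n R j) O(d)) n) := by
  cases j with
  | zero => obtain ⟨e⟩ := nonempty_Om_zero n R d; exact subsingleton_HH_iso e.symm (twist_van n R (by omega) (by omega))
  | succ j =>
    obtain ⟨q, rfl⟩ : ∃ q, n = q + 1 := ⟨n - 1, by omega⟩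
    obtain ⟨S, hS, ⟨e₁⟩, ⟨e₃⟩, h₂⟩ := exists_ses (q + 1) R j d
    exact subsingleton_HH_iso e₁ (sub_left hS (h₂ (q + 1) (twist_van (q + 1) R (by omega) (by omega)))
      (subsingleton_HH_iso e₃.symm (van_neg (q + 1) R hd j q (by omega))))

/-- `H^q(Ω^j) = 0` for `q ≠ j`. -/
theorem van_zero (hn : 1 ≤ n) (j q : ℕ) (hq : q ≠ j ∨ n < j) : Subsingleton (Coh.HH Pn (Om n R j) q) := by
  obtain ⟨z⟩ := nonempty_Om_tensor_zero n R j
  refine subsingleton_HH_iso z ?_
  rcases Nat.lt_or_ge n j with h | h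
  · exact subsingleton_of_gt n R h 0 q
  rcases Nat.lt_or_gt_of_ne (hq.resolve_right (by omega)) with hlt | hgt
  · clear z hq
    induction q generalizing j with
    | zero =>
      obtain ⟨j, rfl⟩ : ∃ i, j = i + 1 := ⟨j - 1, by omega⟩
      obtain ⟨S, hS, ⟨e₁⟩, -, h₂⟩ := exists_ses n R j 0
      exact subsingleton_HH_iso e₁ (sub_left₀ hS (h₂ 0 (twist_van n R (by omega) (by omega))))
    | succ q ih =>
      obtain ⟨j, rfl⟩ : ∃ i, j = i + 1 := ⟨j - 1, by omega⟩
      obtain ⟨S, hS, ⟨e₁⟩, ⟨e₃⟩, h₂⟩ := exists_ses n R j 0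
      exact subsingleton_HH_iso e₁ (sub_left hS (h₂ (q + 1) (twist_van n R (by omega) (by omega)))
        (subsingleton_HH_iso e₃.symm (ih j (by omega) (by omega))))
  · clear z hq
    induction hm : (n + 1 - j) generalizing j q with
    | zero => exact subsingleton_of_gt n R (by omega) 0 q
    | succ m ih =>
      obtain ⟨S, hS, ⟨e₁⟩, ⟨e₃⟩, h₂⟩ := exists_ses n R j 0
      refine subsingleton_HH_iso e₃ (sub_right hS (h₂ q (twist_van n R (by omega) (by omega)))
        (subsingleton_HH_iso e₁.symm ?_))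
      rcases Nat.lt_or_ge n (j + 1) with h' | h'
      · exact subsingleton_of_gt n R h' 0 _
      · exact ih (j + 1) (q + 1) h' (by omega) (by omega)

/-- The degree zero part of a polynomial ring. -/
theorem nonempty_homogeneous_zero :
    Nonempty (↥(MvPolynomial.homogeneousSubmodule (Fin (n + 1)) R 0) ≃ₗ[R] R) := by
  let f : R →ₗ[R] ↥(MvPolynomial.homogeneousSubmodule (Fin (n + 1)) R 0) :=
    (Algebra.linearMap R (MvPolynomial (Fin (n + 1)) R)).codRestrict _ fun r =>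
      MvPolynomial.isHomogeneous_C (Fin (n + 1)) r
  refine ⟨(LinearEquiv.ofBijective f ⟨fun a b h => ?_, fun x => ?_⟩).symm⟩
  · exact MvPolynomial.C_injective (Fin (n + 1)) R (Subtype.ext_iff.1 h)
  · refine ⟨MvPolynomial.coeff 0 x.1, Subtype.ext ?_⟩
    exact ((MvPolynomial.IsHomogeneous.totalDegree_le x.2).antisymm (Nat.zero_le _) |>
      MvPolynomial.totalDegree_eq_zero_iff_eq_C.1).symm

/-- `H^j(Ω^j)` is free of rank one for `j ≤ n`. -/
theorem nonempty_diag (j : ℕ) (hj : j ≤ n) : Nonempty (Coh.HH Pn (Om n R j) j ≃ₗ[R] R) := by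
  induction h : (n - j) generalizing j with
  | zero =>
    obtain rfl : j = n := by omega
    haveI : IsProper (CohB1.ProjSpace.toSpec j R) := ProjSpace.isProper_toSpec j R
    obtain ⟨e⟩ := nonempty_det_omega_projSpace j R (isExtPow_Om j R j)
    obtain ⟨a⟩ := S0845.result R j 0
    obtain ⟨b⟩ := nonempty_homogeneous_zero j R
    refine ⟨(hequiv R (e ≪≫ eqToIso (congrArg (_root_.Twist.twistProjSpace j R) ?_)) j).trans (a.trans b)⟩
    push_cast
    ring
  | succ m ih =>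
    obtain ⟨S, hS, ⟨e₁⟩, ⟨e₃⟩, h₂⟩ := exists_ses n R j 0
    obtain ⟨z₁⟩ := nonempty_Om_tensor_zero n R (j + 1)
    obtain ⟨z₃⟩ := nonempty_Om_tensor_zero n R j
    obtain ⟨δ⟩ := nonempty_delta_equiv hS (q := j) (h₂ j (twist_van n R (by omega) (by omega)))
      (h₂ (j + 1) (twist_van n R (by omega) (by omega)))
    obtain ⟨c⟩ := ih (j + 1) (by omega) (by omega)
    exact ⟨(hequiv R (z₃.symm ≪≫ e₃.symm) j).trans (δ.trans ((hequiv R (e₁ ≪≫ z₁) (j + 1)).trans c))⟩

end Forms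

end Groth.Agent.Euler2
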