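import Groth.Agent.Lib.Euler2.Hodge
import Groth.Agent.S0843
import Mathlib.RingTheory.MvPolynomial.Homogeneous
import Mathlib.Algebra.Order.Antidiag.FinsuppEquiv

/-!
The dimensions of the cohomology of twisted differential forms of projective space.
-/

set_option autoImplicit false
set_option linter.style.haveILetI false
set_option linter.unusedSectionVars false
set_option backward.isDefEq.respectTransparency false
set_option backward.isDefEq.respectTransparency.types false
set_option synthInstance.maxHeartbeats 400000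
set_option maxHeartbeats 1600000

universe u

open CategoryTheory Limits AlgebraicGeometry TopologicalSpace Opposite

noncomputable section

attribute [local instance] Abelian.hasFiniteBiproducts

namespace Groth.Agent.Euler2

open CurveCoh17 (hmap hequiv)

variable (n : ℕ) (k : Type u) [Field k]

local notation "Pn" => CohB1.ProjSpace n k
local notation "O(" d ")" => _root_.Twist.twistProjSpace n k d
local notation "h(" j ", " d ", " q ")" =>
  Module.finrank k (Coh.HH (CohB1.ProjSpace n k) (CohB1.tensorMod (Om n k j) (_root_.Twist.twistProjSpace n k d)) q)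

theorem finrank_homogeneous (m : ℕ) :
    Module.finrank k (MvPolynomial.homogeneousSubmodule (Fin (n + 1)) k m) = (m + n).choose n ∧
      Module.Finite k (MvPolynomial.homogeneousSubmodule (Fin (n + 1)) k m) := by
  classical
  let T := (Finset.univ : Finset (Fin (n + 1))).finsuppAntidiag m
  have hset : {d : Fin (n + 1) →₀ ℕ | d.degree = m} = (T : Set (Fin (n + 1) →₀ ℕ)) := by
    ext d
    simp [T, Finset.mem_finsuppAntidiag, Finsupp.degree_eq_sum]
  have he : MvPolynomial.homogeneousSubmodule (Fin (n + 1)) k m = MvPolynomial.restrictSupport k (T : Set (Fin (n + 1) →₀ ℕ)) := by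
    rw [MvPolynomial.homogeneousSubmodule_eq_finsupp_supported, hset]; rfl
  rw [he]
  refine ⟨?_, Module.Finite.of_basis (MvPolynomial.basisRestrictSupport k (T : Set (Fin (n + 1) →₀ ℕ)))⟩
  rw [Module.finrank_eq_card_basis (MvPolynomial.basisRestrictSupport k (T : Set (Fin (n + 1) →₀ ℕ)))]
  erw [Fintype.card_coe, Finset.card_finsuppAntidiag_nat_eq_choose]
  · rw [Finset.card_univ, Fintype.card_fin, show n + 1 + m - 1 = m + n by omega, Nat.choose_symm_add]

/-- Cohomology of a free module twisted by `E`. -/
theorem nonempty_HH_freeMod_tensor (N : ℕ) (E : (CohB1.ProjSpace n k).Modules) (q : ℕ) :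
    Nonempty (Coh.HH Pn (CohB1.tensorMod (FlatMod.freeMod Pn N) E) q ≃ₗ[k] (Fin N → Coh.HH Pn E q)) := by
  classical
  let G := fun _ : Fin N => Coh.structureModule Pn
  let F := M2.tensorR E
  let c : ∀ i, Coh.HH Pn (F.obj (G i)) q ≃ₗ[k] Coh.HH Pn E q := fun _ => hequiv k (M2.tensorLUnit E) q
  let a : Coh.HH Pn (F.obj (⨁ G)) q ≃ₗ[k] (∀ i, Coh.HH Pn (F.obj (G i)) q) :=
    { toFun := fun x i => hmap k (F.map (biproduct.π G i)) q x
      map_add' := fun x y => funext fun i => map_add _ x y
      map_smul' := fun c x => funext fun i => map_smul _ c x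
      invFun := fun y => ∑ i, hmap k (F.map (biproduct.ι G i)) q (y i)
      left_inv := fun x => by
        show ∑ i, hmap k (F.map (biproduct.ι G i)) q (hmap k (F.map (biproduct.π G i)) q x) = x
        have hs : ∀ t : Finset (Fin N), hmap k (F.map (∑ i ∈ t, biproduct.π G i ≫ biproduct.ι G i)) q x =
            ∑ i ∈ t, hmap k (F.map (biproduct.ι G i)) q (hmap k (F.map (biproduct.π G i)) q x) := by
          intro t
          induction t using Finset.cons_induction with
          | empty => rw [Finset.sum_empty, Functor.map_zero, CurveCoh17.hmap_zero, Finset.sum_empty]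
          | cons a t ha ih =>
            rw [Finset.sum_cons, Functor.map_add, hmap_add, ih, Finset.sum_cons, Functor.map_comp,
              CurveCoh17.hmap_comp]
        rw [← hs Finset.univ, biproduct.total, CategoryTheory.Functor.map_id, CurveCoh17.hmap_id]
      right_inv := fun y => funext fun j => by
        show hmap k (F.map (biproduct.π G j)) q (∑ i, hmap k (F.map (biproduct.ι G i)) q (y i)) = y j
        rw [map_sum, Finset.sum_eq_single j]
        · rw [← CurveCoh17.hmap_comp, ← Functor.map_comp, biproduct.ι_π_self, CategoryTheory.Functor.map_id,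
            CurveCoh17.hmap_id]
        · intro i _ hij
          rw [← CurveCoh17.hmap_comp, ← Functor.map_comp, biproduct.ι_π_ne G hij, Functor.map_zero,
            CurveCoh17.hmap_zero]
        · simp }
  exact ⟨((hequiv k (F.mapIso (biproduct.isoCoproduct G)) q).symm.trans a).trans (LinearEquiv.piCongrRight c)⟩

theorem finite_middle {S : ShortComplex (CohB1.ProjSpace n k).Modules} {q N : ℕ} {d : ℤ}
    (e : S.X₂ ≅ CohB1.tensorMod (FlatMod.freeMod Pn N) O(d)) {V : Type u} [AddCommGroup V] [Module k V]
    [Module.Finite k V] (a : Coh.HH Pn O(d) q ≃ₗ[k] V) :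
    Module.Finite k (Coh.HH Pn S.X₂ q) ∧ Module.finrank k (Coh.HH Pn S.X₂ q) = N * Module.finrank k V := by
  obtain ⟨b⟩ := nonempty_HH_freeMod_tensor n k N O(d) q
  let t : Coh.HH Pn S.X₂ q ≃ₗ[k] (Fin N → V) :=
    ((hequiv k e q).trans b).trans (LinearEquiv.piCongrRight fun _ => a)
  refine ⟨Module.Finite.equiv t.symm, ?_⟩
  rw [t.finrank_eq, Module.finrank_pi_fintype, Finset.sum_const, Finset.card_univ, Fintype.card_fin, smul_eq_mul]

theorem finrank_eq_zero_of {M : (CohB1.ProjSpace n k).Modules} {q : ℕ} (h : Subsingleton (Coh.HH Pn M q)) :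
    Module.finrank k (Coh.HH Pn M q) = 0 :=
  Module.finrank_zero_of_subsingleton

theorem add_of_exact {A B C : Type u} [AddCommGroup A] [Module k A] [AddCommGroup B] [Module k B] [AddCommGroup C]
    [Module k C] [Module.Finite k B] {f : A →ₗ[k] B} {g : B →ₗ[k] C} (hf : Function.Injective f)
    (hg : Function.Surjective g) (h : Function.Exact f g) :
    Module.finrank k A + Module.finrank k C = Module.finrank k B := by
  rw [← LinearMap.finrank_range_of_inj hf, ← LinearMap.finrank_range_add_finrank_ker g, LinearMap.range_eq_top.2 hg,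
    finrank_top, LinearMap.exact_iff.1 h, add_comm]

theorem pascal_step (d r p : ℕ) (hpr : p ≤ r) (hpd : p < d) :
    Nat.choose (d + r - p) d * Nat.choose (d - 1) p + Nat.choose (d + r - (p + 1)) d * Nat.choose (d - 1) (p + 1) =
      Nat.choose (r + 1) (p + 1) * Nat.choose (d - (p + 1) + r) r := by
  obtain ⟨a, rfl⟩ : ∃ a, r = p + a := ⟨r - p, by omega⟩
  obtain ⟨b, rfl⟩ : ∃ b, d = p + b + 1 := ⟨d - p - 1, by omega⟩
  rw [show p + b + 1 + (p + a) - p = p + b + 1 + a by omega, show p + b + 1 - 1 = p + b by omega,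
    show p + b + 1 + (p + a) - (p + 1) = p + b + a by omega, show p + b + 1 - (p + 1) = b by omega,
    show p + a + 1 = (p + 1) + a by omega, show b + (p + a) = (p + a) + b by omega]
  have key : ∀ x y z w : ℕ, ((x.factorial * y.factorial * z.factorial * w.factorial : ℕ) : ℚ) ≠ 0 := fun x y z w => by
    positivity
  rcases Nat.eq_zero_or_pos a with rfl | ha
  · rw [Nat.choose_eq_zero_of_lt (show p + b + 0 < p + b + 1 by omega)]
    simp [Nat.choose_self, Nat.choose_symm_add, add_comm]
  obtain ⟨a, rfl⟩ : ∃ c, a = c + 1 := ⟨a - 1, by omega⟩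
  rcases Nat.eq_zero_or_pos b with rfl | hb
  · rw [Nat.choose_eq_zero_of_lt (show p + 0 < p + 1 by omega)]
    simp [Nat.choose_self, Nat.choose_symm_add, add_comm, add_left_comm, add_assoc]
  obtain ⟨b, rfl⟩ : ∃ c, b = c + 1 := ⟨b - 1, by omega⟩
  apply Nat.cast_injective (R := ℚ)
  push_cast
  rw [show p + (b + 1) + 1 + (a + 1) = (p + b + 2) + (a + 1) by ring, show p + (b + 1) + 1 = p + b + 2 by ring,
    show p + (b + 1) + (a + 1) = (p + b + 2) + a by ring, show p + (b + 1) = p + b + 1 by ring,
    show p + (a + 1) + (b + 1) = (p + a + 1) + (b + 1) by ring, show p + 1 + (a + 1) = (p + 1) + (a + 1) by ring,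
    show p + (a + 1) = p + a + 1 by ring]
  rw [Nat.cast_choose ℚ (show p + b + 2 ≤ p + b + 2 + (a + 1) by omega),
    Nat.cast_choose ℚ (show p ≤ p + b + 1 by omega), Nat.cast_choose ℚ (show p + b + 2 ≤ p + b + 2 + a by omega),
    Nat.cast_choose ℚ (show p + 1 ≤ p + b + 1 by omega), Nat.cast_choose ℚ (show p + 1 ≤ p + 1 + (a + 1) by omega),
    Nat.cast_choose ℚ (show p + a + 1 ≤ p + a + 1 + (b + 1) by omega)]
  simp only [Nat.add_sub_cancel_left, show p + b + 1 - p = b + 1 by omega, show p + b + 1 - (p + 1) = b by omega]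
  rw [show p + b + 2 + (a + 1) = (p + a + b + 2) + 1 by ring, show p + b + 2 + a = p + a + b + 2 by ring,
    show p + a + 1 + (b + 1) = p + a + b + 2 by ring, show p + 1 + (a + 1) = (p + a + 1) + 1 by ring]
  simp only [show p + b + 2 = p + b + 1 + 1 by ring, Nat.factorial_succ, Nat.cast_mul, Nat.cast_add, Nat.cast_one,
    Nat.cast_ofNat]
  field_simp
  ring

/-- `h⁰(Ω^p(d))`. -/
theorem finrank_h0 (d : ℕ) (hd : 0 < d) : ∀ p : ℕ,
    h(p, (d : ℤ), 0) = Nat.choose (d + n - p) d * Nat.choose (d - 1) p := by
  intro p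
  induction hm : (n + 1 - p) generalizing p with
  | zero =>
    rw [finrank_eq_zero_of n k (subsingleton_of_gt n k (by omega) _ 0), Nat.choose_eq_zero_of_lt (show d + n - p < d by omega),
      zero_mul]
  | succ m ih =>
    rcases Nat.lt_or_ge p d with hpd | hpd
    · obtain ⟨S, hS, ⟨e₁⟩, ⟨e₃⟩, ⟨e₂⟩⟩ := exists_ses_free n k p (d : ℤ)
      obtain ⟨a⟩ := S0843.result k n (d - (p + 1))
      obtain ⟨hV, hVf⟩ := finrank_homogeneous n k (d - (p + 1))
      obtain ⟨hfin, hN⟩ := finite_middle n k (q := 0) e₂
        ((hequiv k (eqToIso (congrArg (_root_.Twist.twistProjSpace n k) (by omega))) 0).trans a)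
      haveI h1 : Subsingleton (Coh.HH Pn S.X₁ 1) :=
        subsingleton_HH_iso e₁.symm (van_pos n k (by omega) (p + 1) 1 one_pos)
      have hsum := add_of_exact k (CurveCoh17.hmap_f_injective k hS) (fun x =>
        (CurveCoh17.exact_hmap_hdelta k hS 0 x).1 (Subsingleton.elim _ _)) (CurveCoh17.exact_hmap_hmap k hS 0)
      rw [hN, hV, (hequiv k e₁ 0).finrank_eq, (hequiv k e₃ 0).finrank_eq, ih (p + 1) (by omega)] at hsum
      have := pascal_step d n p (by omega) hpd
      omega
    · rw [finrank_eq_zero_of n k (van_pos_zero n k (by omega) p (by omega)),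
        Nat.choose_eq_zero_of_lt (show d - 1 < p by omega), mul_zero]

/-- `h^n(Ω^p(-e))`. -/
theorem finrank_top (e : ℕ) (he : 0 < e) : ∀ p : ℕ,
    h(p, -(e : ℤ), n) = if p ≤ n then Nat.choose (e + p) e * Nat.choose (e - 1) (n - p) else 0 := by
  intro p
  induction hm : (n + 1 - p) generalizing p with
  | zero => rw [finrank_eq_zero_of n k (subsingleton_of_gt n k (by omega) _ n), if_neg (by omega)]
  | succ m ih =>
    rw [if_pos (by omega)]
    by_cases hz : e + p ≤ n
    · rw [Nat.choose_eq_zero_of_lt (show e - 1 < n - p by omega), mul_zero,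
        finrank_eq_zero_of n k (van_neg_top n k (by omega) (by omega) p (by omega))]
    obtain ⟨S, hS, ⟨e₁⟩, ⟨e₃⟩, ⟨e₂⟩⟩ := exists_ses_free n k p (-(e : ℤ))
    obtain ⟨a⟩ := S0845.result k n (e + p - n)
    obtain ⟨hV, hVf⟩ := finrank_homogeneous n k (e + p - n)
    obtain ⟨hfin, hN⟩ := finite_middle n k (q := n) e₂
      ((hequiv k (eqToIso (congrArg (_root_.Twist.twistProjSpace n k) (by omega))) n).trans a)
    haveI : Subsingleton (Coh.HH Pn S.X₁ (n + 1)) :=
      subsingleton_HH_iso e₁.symm (van_gt n k (p + 1) (n + 1) (by omega))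
    have key : ∀ q, q ≤ n → Function.Injective (CurveCoh17.hmap k S.f q) := fun q => by
      cases q with
      | zero => exact fun _ => CurveCoh17.hmap_f_injective k hS
      | succ m =>
        intro hm
        refine (injective_iff_map_eq_zero _).2 fun x hx => ?_
        haveI : Subsingleton (Coh.HH Pn S.X₃ m) :=
          subsingleton_HH_iso e₃.symm (van_neg n k (by omega) p m (by omega))
        obtain ⟨y, rfl⟩ := (CurveCoh17.exact_hdelta_hmap k hS m x).1 hx
        rw [Subsingleton.elim y 0, map_zero]
    have hinj := key n le_rfl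
    have hsum := add_of_exact k hinj (fun x => (CurveCoh17.exact_hmap_hdelta k hS n x).1 (Subsingleton.elim _ _))
      (CurveCoh17.exact_hmap_hmap k hS n)
    rw [hN, hV, (hequiv k e₁ n).finrank_eq, (hequiv k e₃ n).finrank_eq, ih (p + 1) (by omega),
      show e + p - n + n = e + p by omega] at hsum
    by_cases hp : p + 1 ≤ n
    · rw [if_pos hp] at hsum
      have := pascal_step e n (n - (p + 1)) (by omega) (by omega)
      rw [show e + n - (n - (p + 1)) = e + (p + 1) by omega, show n - (p + 1) + 1 = n - p by omega,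
        show e + n - (n - p) = e + p by omega, show e - (n - p) + n = e + p by omega] at this
      have h3 : Nat.choose (n + 1) (n - p) = Nat.choose (n + 1) (p + 1) :=
        Nat.choose_symm_of_eq_add (by omega)
      rw [h3] at this
      omega
    · rw [if_neg hp, show p = n by omega, Nat.choose_self, zero_add, one_mul] at hsum
      rw [show p = n by omega, Nat.sub_self, Nat.choose_zero_right, mul_one, hsum, Nat.choose_symm_add]

end Groth.Agent.Euler2
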