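import Groth.Agent.Lib.PBundle2.Chart
import Groth.Agent.Lib.BlowKoszul2.Conormal
import Groth.Agent.Lib.Omega12.Restrict
import Groth.Agent.Lib.Omega12.Finite
import Mathlib.RingTheory.Kaehler.Basic
import Mathlib.Algebra.MvPolynomial.PDeriv

/-!
The differentials of the coordinates of a chart of a projective bundle form a basis.
-/

set_option autoImplicit false
set_option linter.style.haveILetI false
set_option backward.isDefEq.respectTransparency false
set_option backward.isDefEq.respectTransparency.types false
set_option synthInstance.maxHeartbeats 400000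
set_option maxHeartbeats 1000000

universe u

open CategoryTheory Limits AlgebraicGeometry TopologicalSpace Opposite

noncomputable section

namespace Groth.Agent.Euler2

open P1Split (IsBas)

/-- Differentials of polynomial coordinates are a basis of the Kähler differentials. -/
theorem bijective_D_coords {A B : Type u} [CommRing A] [CommRing B] [Algebra A B] {m : ℕ} (y : Fin m → B)
    (hy : Function.Bijective (MvPolynomial.aeval (R := A) y)) :
    Function.Bijective fun c : Fin m → B => ∑ i, c i • KaehlerDifferential.D A B (y i) := by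
  classical
  let e := AlgEquiv.ofBijective (MvPolynomial.aeval (R := A) y) hy
  have hey : ∀ j, e.symm (y j) = MvPolynomial.X j := fun j => e.injective (by
    rw [AlgEquiv.apply_symm_apply]; exact (MvPolynomial.aeval_X y j).symm)
  let δ : Derivation A B (Fin m → B) := Derivation.mk'
    { toFun := fun b i => e (MvPolynomial.pderiv i (e.symm b))
      map_add' := fun a b => funext fun i => by simp
      map_smul' := fun a b => funext fun i => by simp }
    (fun a b => funext fun i => by
      simp only [LinearMap.coe_mk, AddHom.coe_mk, Pi.add_apply, Pi.smul_apply, smul_eq_mul, map_mul, map_add,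
        Derivation.leibniz, AlgEquiv.apply_symm_apply])
  have hδ : ∀ j, δ.liftKaehlerDifferential (KaehlerDifferential.D A B (y j)) = Pi.single j 1 := fun j => by
    rw [Derivation.liftKaehlerDifferential_comp_D]
    funext i
    show e (MvPolynomial.pderiv i (e.symm (y j))) = _
    rw [hey, MvPolynomial.pderiv_X]
    by_cases h : i = j
    · subst h; simp
    · simp [Pi.single_eq_of_ne h, Pi.single_eq_of_ne (Ne.symm h)]
  refine ⟨fun c c' h => ?_, fun z => ?_⟩
  · have := congrArg δ.liftKaehlerDifferential h
    simp only [map_sum, map_smul, hδ] at this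
    funext i
    simpa [Finset.sum_apply, Pi.single_apply] using congrFun this i
  · let L := Fintype.linearCombination B fun i => KaehlerDifferential.D A B (y i)
    have hz : z ∈ Submodule.span B (Set.range (KaehlerDifferential.D A B)) := by
      rw [KaehlerDifferential.span_range_derivation]; trivial
    suffices h : Submodule.span B (Set.range (KaehlerDifferential.D A B)) ≤ LinearMap.range L from h hz
    rw [Submodule.span_le]
    rintro _ ⟨b, rfl⟩
    obtain ⟨p, rfl⟩ := hy.2 b
    induction p using MvPolynomial.induction_on with
    | C a => rw [MvPolynomial.aeval_C, Derivation.map_algebraMap]; exact zero_mem _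
    | add p q hp hq => rw [map_add, map_add]; exact add_mem hp hq
    | mul_X p i hp =>
      rw [map_mul, MvPolynomial.aeval_X, Derivation.leibniz]
      refine add_mem (Submodule.smul_mem _ _ ⟨Pi.single i 1, ?_⟩) (Submodule.smul_mem _ _ hp)
      simp [L]

variable {X P : Scheme.{u}} {E : X.Modules} {U : X.Opens} {π : P ⟶ X} {O1 : P.Modules} {m : ℕ}
  {q : (Scheme.Modules.pullback π).obj E ⟶ O1}

/-- A basis of the Kähler differentials of an affine chart gives a basis of a receptacle. -/
theorem isBas_d_of_bijective {Ω : P.Modules} {d : OmegaSh.Der π Ω} (hd : OmegaSh.IsUniversal d) {W : P.Opens}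
    (hW : IsAffineOpen W) (hU : IsAffineOpen U) (h : W ≤ π ⁻¹ᵁ U) (y : Fin m → Γ(P, W))
    (hb : letI := (π.appLE U W h).hom.toAlgebra
      Function.Bijective fun c : Fin m → Γ(P, W) => ∑ i, c i • KaehlerDifferential.D Γ(X, U) Γ(P, W) (y i)) :
    IsBas Ω W fun i => d.app W (y i) := by
  letI : Algebra Γ(X, U) Γ(P, W) := (π.appLE U W h).hom.toAlgebra
  have hs := Omega12.bijective_sectMap π hd hW hU h
  have hΦ : Function.Bijective fun v : Fin m → Γ(P, W) => ∑ i, v i • d.app W (y i) := by
    rw [show (fun v : Fin m → Γ(P, W) => ∑ i, v i • d.app W (y i)) =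
        (fun z => Omega12.sectMap π d U W h z) ∘ fun v => ∑ i, v i • KaehlerDifferential.D Γ(X, U) Γ(P, W) (y i) from
      funext fun v => by
        refine Eq.symm ((map_sum (Omega12.sectMap π d U W h).hom _ _).trans (Finset.sum_congr rfl fun i _ => ?_))
        refine ((Omega12.sectMap π d U W h).hom.map_smul _ _).trans ?_
        exact congrArg (v i • ·) (Omega12.sectMap_d π d U W h (y i))]
    exact hs.comp hb
  let L : (Fin m → Γ(P, W)) →ₗ[Γ(P, W)] Γ(Ω, W) := Fintype.linearCombination _ fun i => d.app W (y i)
  have hL : Function.Bijective L := hΦ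
  have := BlowKoszul2.isBas_of_basis (Omega12.isQCoh_receptacle π hd) hW
    (Module.Basis.ofEquivFun (LinearEquiv.ofBijective L hL).symm)
  convert this using 1
  funext i
  rw [Module.Basis.coe_ofEquivFun, LinearEquiv.symm_symm]
  beta_reduce
  rw [LinearEquiv.ofBijective_apply]
  exact ((Fintype.linearCombination_apply_single (R := Γ(P, W)) (fun i => d.app W (y i)) _ _).trans (one_smul _ _)).symm

/-- The differentials of the coordinates form a basis on a chart. -/
theorem isBas_d_coords (hP : KRR.IsProjBundle π E O1 q) (hE : Coh.IsQCoh E) (hU : IsAffineOpen U)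
    (c : Module.Basis (Fin (m + 1)) Γ(X, U) Γ(E, U)) (k : Fin (m + 1))
    {Ω : P.Modules} {d : OmegaSh.Der π Ω} (hd : OmegaSh.IsUniversal d) :
    IsBas Ω (VA11.gl (PBundle2.sg q (c k)))
      fun i => d.app _ (VA11.cf (PBundle2.sg q (c k)) (PBundle2.sg q (c (k.succAbove i)))) := by
  obtain ⟨hW, hρ⟩ := PBundle2.chart hP hE hU c k
  let W := VA11.gl (PBundle2.sg q (c k))
  let h : W ≤ π ⁻¹ᵁ U := PBundle2.gl_le_preimage c k
  exact isBas_d_of_bijective hd hW hU h _
    (by
      letI : Algebra Γ(X, U) Γ(P, W) := (π.appLE U W h).hom.toAlgebra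
      exact bijective_D_coords _ hρ)

end Groth.Agent.Euler2
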