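import Groth.Agent.Lib.AmpleFin18.ProjFree
import Groth.Agent.Lib.Wedge2.Basic
import Groth.Agent.Lib.TensorMod.Hom
import Groth.Agent.Lib.VeryAmple11.OfMorph
import Groth.Agent.Lib.BlowKoszul2.Conormal
import Groth.Agent.Lib.Omega12.Restrict
import Groth.Agent.Lib.PushUnit3.Basic
import Groth.Prelude.Def_KRR

/-!
The second fundamental form of the kernel of a quotient of an inverse image.
-/

set_option autoImplicit false
set_option linter.style.haveILetI false
set_option linter.unusedSectionVars false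
set_option backward.isDefEq.respectTransparency false
set_option backward.isDefEq.respectTransparency.types false
set_option synthInstance.maxHeartbeats 400000
set_option maxHeartbeats 1000000

universe u

open CategoryTheory Limits AlgebraicGeometry TopologicalSpace Opposite

noncomputable section

namespace Groth.Agent.Euler2

open P1Split (IsBas)
open KoszShH13 (IsAffBasis isAffBasis_top)

variable {S P : Scheme.{u}} {p : P ⟶ S} {F : S.Modules} {O1 : P.Modules}
  (u : (Scheme.Modules.pullback p).obj F ⟶ O1) {Ω : P.Modules} (d : OmegaSh.Der p Ω) {n : ℕ}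

/-- A pulled back section on a smaller open. -/
def pv {U : S.Opens} {V : P.Opens} (h : V ≤ p ⁻¹ᵁ U) (e : Γ(F, U)) : Γ((Scheme.Modules.pullback p).obj F, V) :=
  M1.mres _ h (M2.pullSec p F e)

theorem mres_pv {U U' : S.Opens} {V V' : P.Opens} (h : V ≤ p ⁻¹ᵁ U) (h' : V' ≤ p ⁻¹ᵁ U') (hU : U' ≤ U)
    (hV : V' ≤ V) (e : Γ(F, U)) :
    M1.mres ((Scheme.Modules.pullback p).obj F) hV (pv h e) = pv h' (M1.mres F hU e) := by
  rw [pv, pv, ← VA11.mres_pullSec p hU e, M1.mres_mres, M1.mres_mres]

theorem d_pullConst {U : S.Opens} {V : P.Opens} (h : V ≤ p ⁻¹ᵁ U) (c : Γ(S, U)) :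
    d.app V (p.appLE U V h c) = 0 := by
  rw [Scheme.Hom.appLE, CommRingCat.comp_apply]
  refine (Omega12.der_res p d h (p.app U c)).trans ?_
  rw [Omega12.der_base p d U c]
  exact map_zero _

variable {U : S.Opens} {b : Fin n → Γ(F, U)} (hb : IsBas F U b)

include hb in
theorem bijective_coeff {V : P.Opens} (h : V ≤ p ⁻¹ᵁ U) :
    Function.Bijective fun c : Fin n → Γ(P, V) => ∑ i, c i • pv h (b i) :=
  AmpleFin18.isBas_pullback p hb V h

/-- Coefficients in a pulled back basis. -/
def coef {V : P.Opens} (h : V ≤ p ⁻¹ᵁ U) (k : Γ((Scheme.Modules.pullback p).obj F, V)) : Fin n → Γ(P, V) :=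
  ((bijective_coeff hb h).2 k).choose

theorem coef_spec {V : P.Opens} (h : V ≤ p ⁻¹ᵁ U) (k : Γ((Scheme.Modules.pullback p).obj F, V)) :
    ∑ i, coef hb h k i • pv h (b i) = k :=
  ((bijective_coeff hb h).2 k).choose_spec

theorem coef_eq {V : P.Opens} (h : V ≤ p ⁻¹ᵁ U) {k : Γ((Scheme.Modules.pullback p).obj F, V)} {c : Fin n → Γ(P, V)}
    (hc : ∑ i, c i • pv h (b i) = k) : coef hb h k = c :=
  (bijective_coeff hb h).1 ((coef_spec hb h k).trans hc.symm)

/-- The second fundamental form in terms of a basis. -/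
def val {V : P.Opens} (h : V ≤ p ⁻¹ᵁ U) (k : Γ((Scheme.Modules.pullback p).obj F, V)) :
    Γ(CohB1.tensorMod Ω O1, V) :=
  ∑ i, M2.tsec Ω O1 (d.app V (coef hb h k i)) (u.app V (pv h (b i)))

theorem val_add {V : P.Opens} (h : V ≤ p ⁻¹ᵁ U) (k k' : Γ((Scheme.Modules.pullback p).obj F, V)) :
    val u d hb h (k + k') = val u d hb h k + val u d hb h k' := by
  have e : coef hb h (k + k') = coef hb h k + coef hb h k' := coef_eq hb h (by
    simp only [Pi.add_apply, add_smul, Finset.sum_add_distrib, coef_spec])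
  rw [val, val, val, ← Finset.sum_add_distrib]
  refine Finset.sum_congr rfl fun i _ => ?_
  rw [e, Pi.add_apply, map_add, M2.tsec_add_left]

theorem tsec_smul_swap {V : P.Opens} (c : Γ(P, V)) (s : Γ(Ω, V)) (t : Γ(O1, V)) :
    M2.tsec Ω O1 (c • s) t = M2.tsec Ω O1 s (c • t) := by
  rw [M2.tsec_smul_left, M2.tsec_smul_right]

theorem val_smul {V : P.Opens} (h : V ≤ p ⁻¹ᵁ U) (c : Γ(P, V)) (k : Γ((Scheme.Modules.pullback p).obj F, V))
    (hk : u.app V k = 0) : val u d hb h (c • k) = c • val u d hb h k := by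
  have e : coef hb h (c • k) = c • coef hb h k := coef_eq hb h (by
    simp only [Pi.smul_apply, smul_eq_mul, mul_smul, ← Finset.smul_sum, coef_spec])
  have h0 : ∑ i, M2.tsec Ω O1 (d.app V c) (u.app V (coef hb h k i • pv h (b i))) = 0 := by
    have h1 := map_sum (AddMonoidHom.mk' (fun t => M2.tsec Ω O1 (d.app V c) t) fun t t' => M2.tsec_add_right _ t t')
      (fun i => u.app V (coef hb h k i • pv h (b i))) Finset.univ
    refine h1.symm.trans ?_
    rw [← map_sum, coef_spec, hk]
    exact map_zero _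
  rw [val, val, Finset.smul_sum, ← add_zero (∑ i, c • _), ← h0, ← Finset.sum_add_distrib]
  refine Finset.sum_congr rfl fun i _ => ?_
  rw [e, Pi.smul_apply, smul_eq_mul, show d.app V (c * coef hb h k i) =
    c • d.app V (coef hb h k i) + coef hb h k i • d.app V c from d.d_mul (X := op V) c (coef hb h k i),
    M2.tsec_add_left, M2.tsec_smul_left, tsec_smul_swap, Scheme.Modules.Hom.app_smul]

/-- The value does not depend on the presentation. -/
theorem val_gen {V : P.Opens} (h : V ≤ p ⁻¹ᵁ U) {r : ℕ} (f : Fin r → Γ(F, U)) (a : Fin r → Γ(P, V))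
    (k : Γ((Scheme.Modules.pullback p).obj F, V)) (hk : k = ∑ l, a l • pv h (f l)) :
    val u d hb h k = ∑ l, M2.tsec Ω O1 (d.app V (a l)) (u.app V (pv h (f l))) := by
  choose c hc using fun l => (hb U le_rfl).2 (f l)
  have hf : ∀ l, pv h (f l) = ∑ i, p.appLE U V h (c l i) • pv (F := F) h (b i) := fun l => by
    rw [← hc l, pv]
    simp only [M1.mres_id]
    rw [show M2.pullSec p F (∑ i, c l i • b i) = ∑ i, p.app U (c l i) • M2.pullSec p F (b i) from
      (map_sum (AddMonoidHom.mk' (fun z => M2.pullSec p F z) fun z z' => M2.pullSec_add p F z z') _ _).trans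
        (Finset.sum_congr rfl fun i _ => M2.pullSec_smul p F _ _), map_sum]
    exact Finset.sum_congr rfl fun i _ => M1.mres_smul _ h _ _
  have e : coef hb h k = fun i => ∑ l, a l * p.appLE U V h (c l i) := coef_eq hb h (by
    rw [hk]
    simp only [hf, Finset.sum_smul, Finset.smul_sum, smul_smul]
    exact Finset.sum_comm)
  calc val u d hb h k = ∑ i, ∑ l, M2.tsec Ω O1 (d.app V (a l)) (u.app V (p.appLE U V h (c l i) • pv h (b i))) := by
        refine Finset.sum_congr rfl fun i _ => ?_
        rw [e, map_sum]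
        refine (map_sum (AddMonoidHom.mk' (fun s => M2.tsec Ω O1 s (u.app V (pv h (b i))))
          fun s s' => M2.tsec_add_left s s' _) _ _).trans (Finset.sum_congr rfl fun l _ => ?_)
        show M2.tsec Ω O1 (d.app V (a l * p.appLE U V h (c l i))) _ = _
        rw [show d.app V (a l * p.appLE U V h (c l i)) =
          a l • d.app V (p.appLE U V h (c l i)) + p.appLE U V h (c l i) • d.app V (a l) from
          d.d_mul (X := op V) _ _, d_pullConst d h, smul_zero, zero_add, tsec_smul_swap, Scheme.Modules.Hom.app_smul]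
    _ = _ := by
        rw [Finset.sum_comm]
        refine Finset.sum_congr rfl fun l _ => ?_
        rw [hf l, map_sum]
        exact (map_sum (AddMonoidHom.mk' (fun t => M2.tsec Ω O1 (d.app V (a l)) t)
          fun t t' => M2.tsec_add_right _ t t') _ _).symm

theorem mres_val {V V' : P.Opens} (h : V ≤ p ⁻¹ᵁ U) (hV : V' ≤ V) (k : Γ((Scheme.Modules.pullback p).obj F, V)) :
    M1.mres (CohB1.tensorMod Ω O1) hV (val u d hb h k) = val u d hb (hV.trans h) (M1.mres _ hV k) := by
  have e : coef hb (hV.trans h) (M1.mres _ hV k) = fun i => M1.ores hV (coef hb h k i) := coef_eq hb _ (by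
    conv_rhs => rw [← coef_spec hb h k, map_sum]
    exact Finset.sum_congr rfl fun i _ => by rw [M1.mres_smul, pv, pv, M1.mres_mres])
  rw [val, val, map_sum, e]
  refine Finset.sum_congr rfl fun i _ => ?_
  refine (M2.res_tsec hV _ _).trans ?_
  congr 1
  · exact (Omega12.der_res p d hV _).symm
  · exact (M1.app_mres u hV _).symm.trans (congrArg _ (M1.mres_mres _ _ _ _))

theorem val_indep {n' : ℕ} {U' : S.Opens} {b' : Fin n' → Γ(F, U')} (hb' : IsBas F U' b') {V : P.Opens}
    (h : V ≤ p ⁻¹ᵁ U) (h' : V ≤ p ⁻¹ᵁ U') (k : Γ((Scheme.Modules.pullback p).obj F, V)) :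
    val u d hb h k = val u d hb' h' k := by
  have h'' : V ≤ p ⁻¹ᵁ (U ⊓ U') := le_inf h h'
  have hl : U ⊓ U' ≤ U := inf_le_left
  have hr : U ⊓ U' ≤ U' := inf_le_right
  have e : ∀ i, pv h (b i) = pv h'' (M1.mres F hl (b i)) := fun i => by
    rw [← mres_pv h h'' hl le_rfl]; exact (M1.mres_id _ _ _).symm
  have e' : ∀ i, pv h' (b' i) = pv h'' (M1.mres F hr (b' i)) := fun i => by
    rw [← mres_pv h' h'' hr le_rfl]; exact (M1.mres_id _ _ _).symm
  have key := val_gen u d (hb.mres hl) h'' (fun i => M1.mres F hr (b' i)) (coef hb' h' k) k (by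
    simp only [← e']; exact (coef_spec hb' h' k).symm)
  have key' := val_gen u d (hb.mres hl) h'' (fun i => M1.mres F hl (b i)) (coef hb h k) k (by
    simp only [← e]; exact (coef_spec hb h k).symm)
  simp only [← e] at key'
  simp only [← e'] at key
  exact key'.symm.trans key

variable (hF : FlatMod.IsFinLocFree F)

/-- The opens on which bases are available. -/
def Good (p : P ⟶ S) (F : S.Modules) (V : P.affineOpens) : Prop :=
  ∃ (U : S.Opens) (n : ℕ) (b : Fin n → Γ(F, U)), IsBas F U b ∧ V.1 ≤ p ⁻¹ᵁ U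

include hF in
theorem isAffBasis_good : IsAffBasis (Good p F) := fun O y hy => by
  obtain ⟨n, U, b, hyU, hb⟩ := PushUnit3.exists_isBas_nhd' hF (p y)
  obtain ⟨V, -, hyV, hV⟩ := isAffBasis_top (X := P) (O ⊓ p ⁻¹ᵁ U) y ⟨hy, hyU⟩
  exact ⟨V, ⟨U, n, b, hb, hV.trans inf_le_right⟩, hyV, hV.trans inf_le_left⟩

include hF in
theorem exists_euler_map : ∃ φ : kernel u ⟶ CohB1.tensorMod Ω O1,
    ∀ (V : P.Opens) (U : S.Opens) (n : ℕ) (b : Fin n → Γ(F, U)) (hb : IsBas F U b) (h : V ≤ p ⁻¹ᵁ U)
      (k : Γ(kernel u, V)), φ.app V k = val u d hb h ((kernel.ι u).app V k) := by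
  let T := CohB1.tensorMod Ω O1
  have hP := isAffBasis_good (p := p) hF
  have huz : ∀ (V : P.Opens) (k : Γ(kernel u, V)), u.app V ((kernel.ι u).app V k) = 0 := fun V k => by
    rw [← CategoryTheory.comp_apply, ← Scheme.Modules.Hom.comp_app, kernel.condition]
    rfl
  have G : ∀ (O : P.Opens) (k : Γ(kernel u, O)), ∃! t : Γ(T, O), ∀ V (hV : Good p F V) (hVO : V.1 ≤ O),
      M1.mres T hVO t = val u d hV.choose_spec.choose_spec.choose_spec.1 hV.choose_spec.choose_spec.choose_spec.2
        (M1.mres _ hVO ((kernel.ι u).app O k)) := fun O k =>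
    Wedge2.exists_glue_section hP T O (fun V hV hVO => val u d hV.choose_spec.choose_spec.choose_spec.1
      hV.choose_spec.choose_spec.choose_spec.2 (M1.mres _ hVO ((kernel.ι u).app O k)))
      fun V hV hVO W hW h => by
        rw [mres_val, M1.mres_mres]
        exact val_indep u d _ _ _ _ _
  choose t ht htu using G
  have hadd : ∀ O (k k' : Γ(kernel u, O)), t O (k + k') = t O k + t O k' := fun O k k' =>
    (htu O _ _ fun V hV hVO => by rw [map_add, ht O k V hV hVO, ht O k' V hV hVO, map_add, map_add, val_add]).symm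
  have hsmul : ∀ O (c : Γ(P, O)) (k : Γ(kernel u, O)), t O (c • k) = c • t O k := fun O c k =>
    (htu O _ _ fun V hV hVO => by
      rw [M1.mres_smul, ht O k V hV hVO, Scheme.Modules.Hom.app_smul, M1.mres_smul, val_smul]
      rw [M1.app_mres, huz, map_zero]).symm
  have hres : ∀ (O O' : P.Opens) (h : O' ≤ O) (k : Γ(kernel u, O)),
      M1.mres T h (t O k) = t O' (M1.mres (kernel u) h k) := fun O O' h k => by
    refine htu O' _ _ fun V hV hVO => ?_
    rw [M1.mres_mres, ht O k V hV (hVO.trans h), M1.app_mres, M1.mres_mres]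
  let v : (kernel u).presheaf ⟶ T.presheaf :=
    { app := fun O => AddCommGrpCat.ofHom (AddMonoidHom.mk' (t O.unop) (hadd O.unop))
      naturality := fun O O' i => AddCommGrpCat.hom_ext (AddMonoidHom.ext fun k => (hres O.unop O'.unop i.unop.le k).symm) }
  refine ⟨⟨PresheafOfModules.homMk v fun O c k => hsmul O.unop c k⟩, fun V U n b hb h k => ?_⟩
  show t V k = _
  refine (htu V k _ fun W hW hWV => ?_).symm
  rw [mres_val]
  exact val_indep u d _ _ _ _ _

end Groth.Agent.Euler2
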