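import Groth.Agent.Lib.Euler2.Coord
import Groth.Agent.Lib.Euler2.Map
import Groth.Agent.Lib.DetDeg13.Main

/-!
The Euler sequence of a projective bundle.
-/

set_option autoImplicit false
set_option linter.style.haveILetI false
set_option backward.isDefEq.respectTransparency false
set_option backward.isDefEq.respectTransparency.types false
set_option synthInstance.maxHeartbeats 400000
set_option maxHeartbeats 1000000

universe u

open CategoryTheory Limits AlgebraicGeometry TopologicalSpace Opposite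

noncomputable section

namespace Groth.Agent.Euler2

open P1Split (IsBas)

/-- The twisted differentials are the kernel of the quotient, given coordinate charts. -/
theorem nonempty_euler_iso_of_charts {S P : Scheme.{u}} {p : P ⟶ S} {F : S.Modules} (hF : FlatMod.IsFinLocFree F)
    {O1 : P.Modules} (u : (Scheme.Modules.pullback p).obj F ⟶ O1) {Ω : P.Modules} (d : OmegaSh.Der p Ω)
    (hch : ∀ y : P, ∃ (U : S.Opens) (m : ℕ) (c : Fin (m + 1) → Γ(F, U)) (k : Fin (m + 1)) (W : P.Opens)
      (hWU : W ≤ p ⁻¹ᵁ U) (x : Fin m → Γ(P, W)), y ∈ W ∧ IsBas F U c ∧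
        Twist.IsGen O1 W (u.app W (pv hWU (c k))) ∧
        (∀ i, u.app W (pv hWU (c (k.succAbove i))) = x i • u.app W (pv hWU (c k))) ∧
        IsBas Ω W fun i => d.app W (x i)) :
    Nonempty (CohB1.tensorMod Ω O1 ≅ kernel u) := by
  obtain ⟨φ, hφ⟩ := exists_euler_map u d hF
  haveI : IsIso φ := BlowKoszul2.isIso_of_local_bases φ fun y => by
    obtain ⟨U, m, c, k, W, hWU, x, hyW, hc, hgen, hx, hdx⟩ := hch y
    obtain ⟨w, hw, hwb⟩ := BlowKoszul2.exists_isBas_kernel u (k := k) (e := fun i => pv hWU (c i))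
      ((AmpleFin18.isBas_pullback p hc).mres hWU) hgen x hx
    refine ⟨W, m, w, hyW, hwb, ?_⟩
    have hval : ∀ i, φ.app W (w i) = M2.tsec Ω O1 (d.app W (x i)) (u.app W (pv hWU (c k))) := fun i => by
      rw [hφ W U (m + 1) _ hc hWU (w i),
        val_gen u d hc hWU ![c k, c (k.succAbove i)] ![x i, -1] _ (by
          rw [hw i, Fin.sum_univ_two, sub_eq_add_neg]
          simp),
        Fin.sum_univ_two]
      have h1 : d.app W (-1 : Γ(P, W)) = 0 := by
        have h := d.d_one (X := op W)
        rw [map_neg]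
        exact neg_eq_zero.2 h
      simp only [Matrix.cons_val_zero, Matrix.cons_val_one, h1]
      have h2 : M2.tsec Ω O1 (0 : Γ(Ω, W)) (u.app W (pv hWU (c (k.succAbove i)))) = 0 :=
        map_zero (AddMonoidHom.mk' (fun a => M2.tsec Ω O1 a (u.app W (pv hWU (c (k.succAbove i)))))
          fun a a' => M2.tsec_add_left a a' _)
      rw [h2, add_zero]
    simp only [hval]
    exact DetDeg13.isBas_tsec hdx fun z hz => hgen.stalk hz
  exact ⟨(asIso φ).symm⟩

/-- The twisted differentials of a projective bundle are the universal subbundle. -/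
theorem nonempty_euler_iso {S P : Scheme.{u}} {p : P ⟶ S} {F : S.Modules} (hF : FlatMod.IsFinLocFree F)
    {O1 : P.Modules} {u : (Scheme.Modules.pullback p).obj F ⟶ O1} (hPB : KRR.IsProjBundle p F O1 u)
    {Ω : P.Modules} {d : OmegaSh.Der p Ω} (hd : OmegaSh.IsUniversal d) :
    Nonempty (CohB1.tensorMod Ω O1 ≅ kernel u) := by
  have hq := M2.isQCoh_of_isFinLocFree hF
  refine nonempty_euler_iso_of_charts hF u d fun y => ?_
  obtain ⟨n, D, e, hyD, he⟩ := PushUnit3.exists_isBas_nhd' hF (p y)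
  obtain ⟨U, hU, hyU, hUD⟩ := exists_isAffineOpen_mem_and_subset hyD
  have hUD : U ≤ D := hUD
  obtain ⟨c⟩ := BlowKoszul2.nonempty_basis hUD he
  obtain ⟨k, hk⟩ := PBundle2.exists_mem_gl hPB hq hU c (y := y) hyU
  obtain ⟨m, rfl⟩ : ∃ m, n = m + 1 := ⟨n - 1, by have := k.pos; omega⟩
  let s := fun i => PBundle2.sg u (c i)
  let W := VA11.gl (s k)
  have hWU : W ≤ p ⁻¹ᵁ U := VA11.gl_le _
  have hu : ∀ i, u.app W (pv hWU (c i)) = M1.mres O1 hWU (s i) := fun i => M1.app_mres u hWU _
  refine ⟨U, m, fun i => c i, k, W, hWU, fun i => VA11.cf (s k) (s (k.succAbove i)), hk,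
    BlowKoszul2.isBas_of_basis hq hU c, ?_, fun i => ?_, isBas_d_coords hPB hq hU c k hd⟩
  · rw [hu]; exact VA11.isGen_gl _
  · rw [hu, hu]; exact (VA11.cf_smul _ _).symm

end Groth.Agent.Euler2
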