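import Groth.Agent.Lib.Euler2.Main
import Groth.Agent.Lib.Twist.Universal
import Groth.Agent.Lib.ProjSpace.Basic
import Groth.Agent.Lib.P1Split17.Basis
import Groth.Agent.Lib.AffHom12.Basic

/-!
The Euler sequence of projective space over a ring.
-/

set_option autoImplicit false
set_option linter.style.haveILetI false
set_option backward.isDefEq.respectTransparency false
set_option backward.isDefEq.respectTransparency.types false
set_option synthInstance.maxHeartbeats 400000
set_option maxHeartbeats 1600000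

universe u

open CategoryTheory Limits AlgebraicGeometry TopologicalSpace Opposite

noncomputable section

namespace Groth.Agent.Euler2

open P1Split (IsBas)

variable (n : ℕ) (R : Type u) [CommRing R]

local notation "Pn" => CohB1.ProjSpace n R
local notation "S₀" => Spec (CommRingCat.of R)

/-- A standard chart. -/
abbrev chartOpen (k : Fin (n + 1)) : (CohB1.ProjSpace n R).Opens :=
  Proj.basicOpen (CohB1.polyGrading n R) (MvPolynomial.X k)

theorem coord_mem (i : Fin (n + 1)) :
    (MvPolynomial.X i : MvPolynomial (Fin (n + 1)) R) ∈ CohB1.polyGrading n R 1 :=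
  MvPolynomial.isHomogeneous_X R i

/-- The ratios on a standard chart. -/
def chartEv (k : Fin (n + 1)) : MvPolynomial (Fin (n + 1)) R →+* Γ(CohB1.ProjSpace n R, chartOpen n R k) :=
  ProjUP.ev (CohB1.polyGrading n R) (coord_mem n R k) (𝟙 (CohB1.ProjSpace n R)) (chartOpen n R k) le_rfl

theorem chartEv_eq (k : Fin (n + 1)) (a : MvPolynomial (Fin (n + 1)) R) :
    chartEv n R k a = Proj.awayToSection (CohB1.polyGrading n R) (MvPolynomial.X k)
      (EGA2.dehom (CohB1.polyGrading n R) (coord_mem n R k) a) := by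
  refine (ProjUP.ev_apply _ _ _ _ _ a).trans ?_
  simp [Scheme.Hom.appLE]
  rfl

theorem isAffineOpen_chartOpen (k : Fin (n + 1)) : IsAffineOpen (chartOpen n R k) :=
  Proj.isAffineOpen_basicOpen _ _ (coord_mem n R k) Nat.one_pos

/-- The coordinate ring of a standard chart is a polynomial ring. -/
theorem bijective_chart_coords (k : Fin (n + 1)) :
    Function.Bijective (MvPolynomial.eval₂Hom
      ((CohB1.ProjSpace.toSpec n R).appLE ⊤ (chartOpen n R k) le_top).hom
      fun i : Fin n => chartEv n R k (MvPolynomial.X (k.succAbove i))) := by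
  let 𝒜 := CohB1.polyGrading n R
  let W := chartOpen n R k
  let B := MvPolynomial (Fin n) Γ(S₀, ⊤)
  let φ : B →+* Γ(Pn, W) := MvPolynomial.eval₂Hom ((CohB1.ProjSpace.toSpec n R).appLE ⊤ W le_top).hom
      fun i : Fin n => chartEv n R k (MvPolynomial.X (k.succAbove i))
  let ε : MvPolynomial (Fin (n + 1)) R →+* B := MvPolynomial.eval₂Hom
    (MvPolynomial.C.comp (Scheme.ΓSpecIso (CommRingCat.of R)).inv.hom)
    (Fin.insertNth (α := fun _ => B) k 1 fun i => MvPolynomial.X i)
  let ψ : B →+* MvPolynomial (Fin (n + 1)) R := MvPolynomial.eval₂Hom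
    (MvPolynomial.C.comp (Scheme.ΓSpecIso (CommRingCat.of R)).hom.hom) fun i => MvPolynomial.X (k.succAbove i)
  have h1 : φ.comp ε = chartEv n R k := by
    refine MvPolynomial.ringHom_ext (fun c => ?_) fun l => ?_
    · rw [RingHom.comp_apply, MvPolynomial.eval₂Hom_C, RingHom.comp_apply, MvPolynomial.eval₂Hom_C]
      refine Eq.trans ?_ (ProjUP.ev_algebraMap 𝒜 (coord_mem n R k) (𝟙 _) W le_rfl c).symm
      simp only [Category.id_comp]
      rfl
    · rw [RingHom.comp_apply, MvPolynomial.eval₂Hom_X']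
      refine Fin.succAboveCases k ?_ (fun i => ?_) l
      · rw [Fin.insertNth_apply_same, map_one]
        exact (ProjUP.ev_self 𝒜 (coord_mem n R k) (𝟙 _) W le_rfl).symm
      · rw [Fin.insertNth_apply_succAbove, MvPolynomial.eval₂Hom_X']
  have h2 : ε.comp ψ = RingHom.id B := by
    refine MvPolynomial.ringHom_ext (fun c => ?_) fun l => ?_
    · rw [RingHom.comp_apply, MvPolynomial.eval₂Hom_C, RingHom.comp_apply, MvPolynomial.eval₂Hom_C,
        RingHom.comp_apply, RingHom.id_apply]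
      exact congrArg MvPolynomial.C (Iso.hom_inv_id_apply (Scheme.ΓSpecIso (CommRingCat.of R)) c)
    · rw [RingHom.comp_apply, MvPolynomial.eval₂Hom_X', MvPolynomial.eval₂Hom_X', RingHom.id_apply,
        Fin.insertNth_apply_succAbove]
  have haway : Function.Bijective (Proj.awayToSection 𝒜 (MvPolynomial.X k)) :=
    ConcreteCategory.bijective_of_isIso (Proj.basicOpenIsoAway 𝒜 _ (coord_mem n R k) Nat.one_pos).hom
  show Function.Bijective φ
  refine ⟨(injective_iff_map_eq_zero φ).2 fun q hq => ?_, fun z => ?_⟩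
  · have h3 : chartEv n R k (ψ q) = 0 := by
      rw [← h1, RingHom.comp_apply, ← RingHom.comp_apply ε ψ, h2, RingHom.id_apply, hq]
    rw [chartEv_eq] at h3
    have h4 : EGA2.dehom 𝒜 (coord_mem n R k) (ψ q) = 0 := haway.1 (h3.trans (map_zero _).symm)
    rw [← RingHom.mem_ker, EGA2.ker_dehom, Ideal.mem_span_singleton] at h4
    obtain ⟨w, hw⟩ := h4
    have h5 := congrArg ε hw
    rw [← RingHom.comp_apply, h2, RingHom.id_apply, map_mul, map_sub, map_one, MvPolynomial.eval₂Hom_X',
      Fin.insertNth_apply_same, sub_self, zero_mul] at h5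
    exact h5
  · obtain ⟨y, hy⟩ := haway.2 z
    obtain ⟨a, rfl⟩ := EGA2.dehom_surjective 𝒜 (coord_mem n R k) y
    exact ⟨ε a, by rw [← RingHom.comp_apply, h1, chartEv_eq]; exact hy⟩

theorem isFinLocFree_freeMod (S : Scheme.{u}) (r : ℕ) : FlatMod.IsFinLocFree (FlatMod.freeMod S r) := fun x => by
  obtain ⟨U, hxU, hU⟩ := M2.isFinLocFreeOfRank_freeMod S r x
  exact ⟨U, r, hxU, hU⟩

/-- The tautological quotient. -/
theorem exists_taut : ∃ (b : Module.Basis (Fin (n + 1)) Γ(S₀, ⊤) Γ(FlatMod.freeMod S₀ (n + 1), ⊤))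
    (u : (Scheme.Modules.pullback (CohB1.ProjSpace.toSpec n R)).obj (FlatMod.freeMod S₀ (n + 1)) ⟶
      _root_.Twist.twistProjSpace n R 1),
    IsBas (FlatMod.freeMod S₀ (n + 1)) ⊤ (fun i => b i) ∧
    ∀ i, u.app _ (M2.pullSec (CohB1.ProjSpace.toSpec n R) (FlatMod.freeMod S₀ (n + 1)) (b i)) =
      Twist.gsec (CohB1.polyGrading n R) ⟨MvPolynomial.X i, coord_mem n R i⟩ := by
  let E := FlatMod.freeMod S₀ (n + 1)
  have hE : Coh.IsQCoh E := M2.isQCoh_of_isFinLocFree (isFinLocFree_freeMod S₀ (n + 1))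
  obtain ⟨b⟩ := BlowKoszul2.nonempty_basis (le_refl ⊤) (P1Split.isBas_coprod (fun _ : Fin (n + 1) => Coh.structureModule S₀) (fun _ => M1.one ⊤) fun _ => PBundle2.isGen_one _ rfl)
  let p := CohB1.ProjSpace.toSpec n R
  let H := (Scheme.Modules.pushforward p).obj (_root_.Twist.twistProjSpace n R 1)
  let ℓ := b.constr Γ(S₀, ⊤) fun i =>
    (show Γ(H, ⊤) from Twist.gsec (CohB1.polyGrading n R) ⟨MvPolynomial.X i, coord_mem n R i⟩)
  obtain ⟨η, hη⟩ := AffHom12.exists_hom_top hE (H := H) ℓ.toAddMonoidHom (fun r x => ℓ.map_smul r x)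
  refine ⟨b, ((Scheme.Modules.pullbackPushforwardAdjunction p).homEquiv E _).symm η,
    BlowKoszul2.isBas_of_basis hE (isAffineOpen_top _) b, fun i => ?_⟩
  have h := congrArg (fun χ : E ⟶ H => χ.app ⊤ (b i))
    (((Scheme.Modules.pullbackPushforwardAdjunction p).homEquiv E _).apply_symm_apply η)
  refine Eq.trans ?_ ((hη (b i)).trans (Module.Basis.constr_basis b Γ(S₀, ⊤) _ i))
  refine Eq.trans (Eq.symm ?_) h
  exact (congrArg (fun χ : E ⟶ H => χ.app ⊤ (b i))
    ((Scheme.Modules.pullbackPushforwardAdjunction p).homEquiv_unit _ _ _))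

/-- The Euler sequence of projective space over a ring. -/
theorem exists_euler_projSpace {Ω : (CohB1.ProjSpace n R).Modules}
    {d : OmegaSh.Der (CohB1.ProjSpace.toSpec n R) Ω} (hd : OmegaSh.IsUniversal d) :
    ∃ u : (Scheme.Modules.pullback (CohB1.ProjSpace.toSpec n R)).obj (FlatMod.freeMod S₀ (n + 1)) ⟶
      _root_.Twist.twistProjSpace n R 1,
      Epi u ∧ Nonempty (CohB1.tensorMod Ω (_root_.Twist.twistProjSpace n R 1) ≅ kernel u) := by
  classical
  let 𝒜 := CohB1.polyGrading n R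
  let p := CohB1.ProjSpace.toSpec n R
  let O1 := _root_.Twist.twistProjSpace n R 1
  obtain ⟨b, u, hb, hu⟩ := exists_taut n R
  have hgen : ∀ k, Twist.IsGen O1 (chartOpen n R k)
      (u.app (chartOpen n R k) (pv (p := p) (U := ⊤) (show chartOpen n R k ≤ p ⁻¹ᵁ (⊤ : (Spec (CommRingCat.of R)).Opens) from fun _ _ => trivial) (b k))) := fun k => by
    rw [pv, M1.app_mres, hu]
    intro V hV
    simp only [M1.mres_mres]
    exact Twist.bijective_smul_gsec 𝒜 ⟨_, coord_mem n R k⟩ V hV
  refine ⟨u, ?_, nonempty_euler_iso_of_charts (isFinLocFree_freeMod S₀ (n + 1))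
    u d fun y => ?_⟩
  · refine (M1.epi_iff_stalk u).2 fun y a => ?_
    obtain ⟨k, hk⟩ := Opens.mem_iSup.1 ((ProjSpace.iSup_basicOpen n R).ge (Opens.mem_top y))
    obtain ⟨c, hc⟩ := ((hgen k).stalk hk).2 a
    refine ⟨c • ((Scheme.Modules.pullback p).obj (FlatMod.freeMod S₀ (n + 1))).presheaf.germ (chartOpen n R k) y hk
      (pv (p := p) (U := ⊤) (show chartOpen n R k ≤ p ⁻¹ᵁ (⊤ : (Spec (CommRingCat.of R)).Opens) from fun _ _ => trivial) (b k)), ?_⟩
    refine ((KFlat.Sch.stk u y).map_smul c _).trans (Eq.trans ?_ hc)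
    exact congrArg (c • ·) (TopCat.Presheaf.stalkFunctor_map_germ_apply (chartOpen n R k) y hk ((Scheme.Modules.toPresheaf _).map u) _)
  obtain ⟨k, hk⟩ := Opens.mem_iSup.1 ((ProjSpace.iSup_basicOpen n R).ge (Opens.mem_top y))
  let W := chartOpen n R k
  have hWU : W ≤ p ⁻¹ᵁ ⊤ := le_top
  refine ⟨⊤, n, fun i => b i, k, W, hWU, fun i => chartEv n R k (MvPolynomial.X (k.succAbove i)), hk, hb, hgen k,
    fun i => ?_, ?_⟩
  · rw [pv, pv, M1.app_mres, M1.app_mres, hu, hu]
    have h := ProjUP.sec_eq_ev_smul 𝒜 (𝟙 _) (coord_mem n R k) (coord_mem n R (k.succAbove i)) W le_rfl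
    have hid : ∀ (a : 𝒜 1) , M1.mres _ (le_top : W ≤ ⊤) (ProjUP.sec 𝒜 (𝟙 _) a.2) =
        M2.pullSec (𝟙 _) (_root_.Twist.twist 𝒜 1) (U := W) (M1.mres _ (le_top : W ≤ ⊤) (Twist.gsec 𝒜 a)) :=
      fun a => ProjUP.mres_sec 𝒜 (𝟙 _) a.2 W
    have hinj : Function.Injective fun z : Γ(O1, W) => M2.pullSec (𝟙 _) (_root_.Twist.twist 𝒜 1) (U := W) z := by
      intro z z' hz
      have := congrArg (((Scheme.Modules.pullbackId _).hom.app O1).app W) hz
      have key : ∀ z : Γ(O1, W), ((Scheme.Modules.pullbackId _).hom.app O1).app W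
          (M2.pullSec (𝟙 _) (_root_.Twist.twist 𝒜 1) (U := W) z) = z := fun z => by
        have h0 := Omega12.pullbackId_inv_app O1 W z
        have h1 := congrArg (((Scheme.Modules.pullbackId _).hom.app O1).app W) h0
        rw [← CategoryTheory.comp_apply, ← Scheme.Modules.Hom.comp_app, Iso.inv_hom_id_app] at h1
        exact h1.symm
      rwa [key, key] at this
    refine hinj ?_
    show M2.pullSec (𝟙 _) (_root_.Twist.twist 𝒜 1) (U := W) _ = M2.pullSec (𝟙 _) (_root_.Twist.twist 𝒜 1) (U := W) _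
    refine (hid ⟨_, coord_mem n R (k.succAbove i)⟩).symm.trans (h.trans ?_)
    rw [M2.pullSec_smul]
    exact congrArg₂ (· • ·) (by simp [chartEv]; rfl) (hid ⟨_, coord_mem n R k⟩)
  · let x : Fin n → Γ(Pn, W) := fun i => chartEv n R k (MvPolynomial.X (k.succAbove i))
    letI : Algebra Γ(S₀, ⊤) Γ(Pn, W) := (p.appLE ⊤ W le_top).hom.toAlgebra
    have hbij : Function.Bijective fun c : Fin n → Γ(Pn, W) => ∑ i, c i • KaehlerDifferential.D Γ(S₀, ⊤) Γ(Pn, W) (x i) :=
      bijective_D_coords x (bijective_chart_coords n R k)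
    exact isBas_d_of_bijective hd (isAffineOpen_chartOpen n R k) (isAffineOpen_top _) hWU x hbij

end Groth.Agent.Euler2
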